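/-
Kernel check of the certificate Lin.
-/
import Cfsg.Agent.Lib.GL23Ident.CertLin

set_option autoImplicit false

namespace Cfsg.Agent.GL23Ident

theorem certLin_factsOK : certLin.factsOK [3, 2, 3] = true := by decide +kernel

theorem certLin_finOK : certLin.finOK = true := by decide +kernel

theorem certLin_length : certLin.live.length = 39 := by decide +kernel

end Cfsg.Agent.GL23Ident
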