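/-
Kernel check of the certificate Mat.
-/
import Cfsg.Agent.Lib.GL23Ident.CertMat

set_option autoImplicit false

namespace Cfsg.Agent.GL23Ident

theorem certMat_factsOK : certMat.factsOK [3, 2, 3] = true := by decide +kernel

theorem certMat_finOK : certMat.finOK = true := by decide +kernel

theorem certMat_length : certMat.live.length = 55 := by decide +kernel

end Cfsg.Agent.GL23Ident
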