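/-
A checker for coset enumeration proofs given as a list of coset equalities.

Points carry words; a fact `(p, l, q)` says that `u p * l` and `u q` lie in the same right coset of `H`.
Every fact is the definition of a point, a generator of `H`, or follows from a chain of earlier facts closing a
relator.
-/
import Mathlib.Algebra.Group.Subgroup.Finite
import Mathlib.Algebra.BigOperators.Group.List.Basic
import Mathlib.GroupTheory.OrderOfElement
import Mathlib.Tactic.Group
import Mathlib.Data.List.GetD

set_option autoImplicit false

namespace Cfsg.Agent.GL23Ident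

/-- Binary trees of numbers. -/
inductive Trie where
  | leaf (v : ℕ)
  | node (l r : Trie)

/-- Lookup. -/
def Trie.get : Trie → ℕ → ℕ → ℕ
  | .leaf v, _, _ => v
  | .node _ _, 0, _ => 0
  | .node l r, d + 1, i => if i.testBit d then r.get d i else l.get d i

/-- A certificate. -/
structure Cert where
  facts : Trie
  factDepth : ℕ
  numFacts : ℕ
  par : Trie
  parDepth : ℕ
  rels : List (List ℕ)
  live : List ℕ
  fin : List ℕ

/-- Field `i` of a packed number. -/
def fld (v i : ℕ) : ℕ := (v >>> (16 * i)) % 65536

/-- Inverse letter. -/
def linv (l : ℕ) : ℕ := (l + 4) % 8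

/-- A letter, or the empty word. -/
def wlab (l : ℕ) : List ℕ := if l < 8 then [l] else []

/-- Free reduction. -/
def freeRed : List ℕ → List ℕ
  | [] => []
  | a :: w => match freeRed w with
    | [] => [a]
    | b :: v => if a < 8 ∧ b = linv a then v else a :: b :: v

namespace Cert

variable (D : Cert)

def fact (i : ℕ) : ℕ := D.facts.get D.factDepth i
def parent (q : ℕ) : ℕ := D.par.get D.parDepth q

/-- End point and label of a chain of oriented facts, with the check that the chain is valid. -/
def walk (bound : ℕ) : ℕ → List ℕ → Option (ℕ × List ℕ)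
  | c, [] => some (c, [])
  | c, o :: os =>
    let v := D.fact (o / 2)
    if o / 2 < bound then
      if o % 2 = 1 then
        if fld v 0 = c then (walk bound (fld v 2) os).map fun r => (r.1, wlab (fld v 1) ++ r.2) else none
      else
        if fld v 2 = c then
          (walk bound (fld v 0) os).map fun r => (r.1, (wlab (fld v 1)).map linv ++ r.2)
        else none
    else none

/-- The chain of a fact. -/
def chain (v : ℕ) : List ℕ := (List.range (fld v 6)).map fun k => fld v (7 + k)

/-- Check of one fact; `subw` is the word of the extra generator of the subgroup. -/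
def factOK (subw : List ℕ) (i : ℕ) : Bool :=
  let v := D.fact i
  let p := fld v 0
  let l := fld v 1
  let q := fld v 2
  match fld v 3 with
  | 0 => decide (p < q ∧ l < 8 ∧ D.parent q = p * 16 + l)
  | 1 => decide (p = 0 ∧ q = 0 ∧ l < 2)
  | 2 =>
    match D.walk i q (chain v) with
    | some (e, W) =>
      let r := D.rels.getD (fld v 4) []
      decide (e = p ∧ fld v 4 < D.rels.length ∧ fld v 5 ≤ r.length ∧
        wlab l ++ W = r.drop (fld v 5) ++ r.take (fld v 5))
    | none => false
  | 3 =>
    match D.walk i q (chain v) with
    | some (e, W) => decide (e = p ∧ freeRed (wlab l ++ W) = [])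
    | none => false
  | 4 =>
    match D.walk i q (chain v) with
    | some (e, W) => decide (e = p ∧ q = 0 ∧ W ++ wlab l = subw)
    | none => false
  | _ => false

/-- Check of the final table. -/
def finOK : Bool :=
  decide (D.live.getD 0 1 = 0 ∧ 0 < D.live.length) &&
    (List.range (4 * D.live.length)).all fun k =>
      let f := D.fin.getD k D.numFacts
      let v := D.fact f
      decide (f < D.numFacts ∧ fld v 0 = D.live.getD (k / 4) 0 ∧ fld v 1 = k % 4) &&
        D.live.contains (fld v 2)

/-- Check of all facts. -/
def factsOK (subw : List ℕ) : Bool := (List.range D.numFacts).all (D.factOK subw)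

section sound

variable {K : Type*} [Group K] (val : ℕ → K)

/-- The value of a word. -/
def ev (w : List ℕ) : K := (w.map val).prod

/-- The word of a point. -/
def point : ℕ → K
  | q =>
    if h : D.parent q / 16 < q then point (D.parent q / 16) * val (D.parent q % 16) else 1
  termination_by q => q
  decreasing_by exact h

variable {val}

theorem ev_append (w w' : List ℕ) : ev val (w ++ w') = ev val w * ev val w' := by
  simp [ev, List.prod_append]

theorem point_zero : D.point val 0 = 1 := by rw [point, dif_neg (Nat.not_lt_zero _)]

theorem ev_linv (hinv : ∀ l < 8, val (linv l) = (val l)⁻¹) (l : ℕ) :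
    ev val ((wlab l).map linv) = (ev val (wlab l))⁻¹ := by
  unfold wlab
  split_ifs with h <;> simp [ev, *]

theorem ev_freeRed (hinv : ∀ l < 8, val (linv l) = (val l)⁻¹) (w : List ℕ) :
    ev val (freeRed w) = ev val w := by
  induction w with
  | nil => rfl
  | cons a w ih =>
    have h : ev val (a :: w) = val a * ev val (freeRed w) := by rw [ih]; simp [ev]
    rw [h, freeRed]
    cases freeRed w with
    | nil => simp [ev]
    | cons b v =>
      dsimp only
      split_ifs with hc
      · obtain ⟨ha, rfl⟩ := hc
        simp [ev, hinv a ha]
      · simp [ev]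

/-- The meaning of a fact. -/
def Good (H : Subgroup K) (val : ℕ → K) (i : ℕ) : Prop :=
  D.point val (fld (D.fact i) 0) * ev val (wlab (fld (D.fact i) 1)) *
    (D.point val (fld (D.fact i) 2))⁻¹ ∈ H

theorem walk_sound (H : Subgroup K) (hinv : ∀ l < 8, val (linv l) = (val l)⁻¹) (bound : ℕ)
    (hgood : ∀ i < bound, D.Good H val i) :
    ∀ (os : List ℕ) (c e : ℕ) (W : List ℕ), D.walk bound c os = some (e, W) →
      D.point val c * ev val W * (D.point val e)⁻¹ ∈ H := by
  intro os
  induction os with
  | nil =>
    intro c e W h
    simp only [walk, Option.some.injEq, Prod.mk.injEq] at h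
    obtain ⟨rfl, rfl⟩ := h
    simp [ev]
  | cons o os ih =>
    intro c e W h
    simp only [walk] at h
    split_ifs at h with hb hd hc hc
    · obtain ⟨⟨e', W'⟩, hw, heq⟩ := Option.map_eq_some_iff.mp h
      simp only [Prod.mk.injEq] at heq
      obtain ⟨rfl, rfl⟩ := heq
      have := H.mul_mem (hgood _ hb) (ih _ _ _ hw)
      rw [hc] at this
      convert this using 1
      rw [ev_append]; group
    · obtain ⟨⟨e', W'⟩, hw, heq⟩ := Option.map_eq_some_iff.mp h
      simp only [Prod.mk.injEq] at heq
      obtain ⟨rfl, rfl⟩ := heq
      have := H.mul_mem (H.inv_mem (hgood _ hb)) (ih _ _ _ hw)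
      rw [hc] at this
      convert this using 1
      rw [ev_append, ev_linv hinv]; group

theorem good_of_check (H : Subgroup K) (hinv : ∀ l < 8, val (linv l) = (val l)⁻¹) (subw : List ℕ)
    (hsub : ∀ l < 2, val l ∈ H) (hsubw : ev val subw ∈ H) (hrel : ∀ r ∈ D.rels, ev val r = 1)
    (hc : D.factsOK subw = true) : ∀ i < D.numFacts, D.Good H val i := by
  intro i
  induction i using Nat.strong_induction_on with
  | _ i ih =>
    intro hi
    have hgood : ∀ k < i, D.Good H val k := fun k hk => ih k hk (hk.trans hi)
    have h := List.all_eq_true.mp hc i (List.mem_range.mpr hi)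
    unfold Good
    simp only [factOK] at h
    set v := D.fact i
    split at h
    · obtain ⟨hpq, hl, hpar⟩ := of_decide_eq_true h
      have h1 : D.point val (fld v 2) = D.point val (fld v 0) * val (fld v 1) := by
        rw [point, hpar, show (fld v 0 * 16 + fld v 1) / 16 = fld v 0 by omega,
          show (fld v 0 * 16 + fld v 1) % 16 = fld v 1 by omega, dif_pos hpq]
      rw [h1, wlab, if_pos hl]
      simp [ev]
    · obtain ⟨hp, hq, hl⟩ := of_decide_eq_true h
      rw [hp, hq, D.point_zero, wlab, if_pos (by omega)]
      simpa [ev] using hsub _ hl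
    · cases hw : D.walk i (fld v 2) (chain v) with
      | none => simp [hw] at h
      | some r =>
        obtain ⟨e, W⟩ := r
        simp only [hw, decide_eq_true_eq] at h
        obtain ⟨rfl, hr, _, hW⟩ := h
        have hmem := D.walk_sound H hinv i hgood _ _ _ _ hw
        have hr1 := hrel _ (List.getD_eq_getElem _ [] hr ▸ List.getElem_mem hr)
        rw [← List.take_append_drop (fld v 5) (D.rels.getD (fld v 4) []), ev_append,
          mul_eq_one_iff_eq_inv] at hr1
        have h1 : ev val (wlab (fld v 1)) * ev val W = 1 := by
          rw [← ev_append, hW, ev_append, hr1, mul_inv_cancel]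
        have := H.inv_mem hmem
        convert this using 1
        rw [show ev val (wlab (fld v 1)) = (ev val W)⁻¹ from mul_eq_one_iff_eq_inv.mp h1]
        group
    · cases hw : D.walk i (fld v 2) (chain v) with
      | none => simp [hw] at h
      | some r =>
        obtain ⟨e, W⟩ := r
        simp only [hw, decide_eq_true_eq] at h
        obtain ⟨rfl, hW⟩ := h
        have hmem := D.walk_sound H hinv i hgood _ _ _ _ hw
        have h1 : ev val (wlab (fld v 1)) * ev val W = 1 := by
          rw [← ev_append, ← ev_freeRed hinv, hW]; rfl
        have := H.inv_mem hmem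
        convert this using 1
        rw [show ev val (wlab (fld v 1)) = (ev val W)⁻¹ from mul_eq_one_iff_eq_inv.mp h1]
        group
    · cases hw : D.walk i (fld v 2) (chain v) with
      | none => simp [hw] at h
      | some r =>
        obtain ⟨e, W⟩ := r
        simp only [hw, decide_eq_true_eq] at h
        obtain ⟨rfl, hq, hW⟩ := h
        have hmem := D.walk_sound H hinv i hgood _ _ _ _ hw
        rw [hq, D.point_zero] at hmem ⊢
        rw [← hW, ev_append] at hsubw
        have := H.mul_mem (H.inv_mem hmem) hsubw
        convert this using 1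
        group
    · exact absurd h (by simp)

/-- The bound on the order of the generated subgroup. -/
theorem card_closure_le [Finite K] (H : Subgroup K) (hinv : ∀ l < 8, val (linv l) = (val l)⁻¹)
    (subw : List ℕ) (hsub : ∀ l < 2, val l ∈ H) (hsubw : ev val subw ∈ H)
    (hrel : ∀ r ∈ D.rels, ev val r = 1) (hc : D.factsOK subw = true) (hf : D.finOK = true) :
    Nat.card (Subgroup.closure (val '' {l | l < 4})) ≤ Nat.card H * D.live.length := by
  classical
  have hgood := D.good_of_check H hinv subw hsub hsubw hrel hc
  rw [finOK, Bool.and_eq_true, decide_eq_true_eq] at hf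
  obtain ⟨⟨h0, hne⟩, hfin⟩ := hf
  have hcover : ∀ x ∈ Subgroup.closure (val '' {l | l < 4}),
      ∃ c : H, ∃ k : Fin D.live.length, x = c * D.point val (D.live[k]) := by
    intro x hx
    rw [← Subgroup.mem_toSubmonoid, Subgroup.closure_toSubmonoid_of_finite] at hx
    induction hx using Submonoid.closure_induction_right with
    | one =>
      refine ⟨1, ⟨0, hne⟩, ?_⟩
      have : D.live[(⟨0, hne⟩ : Fin D.live.length)] = 0 := by
        rw [Fin.getElem_fin, ← List.getD_eq_getElem _ 1 hne]; exact h0
      rw [this, D.point_zero]; simp
    | mul_right y _ z hz ih =>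
      obtain ⟨c, k, rfl⟩ := ih
      obtain ⟨l, hl, rfl⟩ := hz
      change l < 4 at hl
      have hk := k.2
      have h := List.all_eq_true.mp hfin (4 * k.1 + l) (List.mem_range.mpr (by omega))
      simp only [Bool.and_eq_true, decide_eq_true_eq, List.contains_iff_mem,
        show (4 * k.1 + l) / 4 = k.1 by omega, show (4 * k.1 + l) % 4 = l by omega] at h
      obtain ⟨⟨hf1, hp, hl'⟩, hq⟩ := h
      obtain ⟨m, hm, hmq⟩ := List.getElem_of_mem hq
      have hg := hgood _ hf1
      unfold Good at hg
      rw [hp, hl', List.getD_eq_getElem _ _ hk, wlab, if_pos (by omega : l < 8)] at hg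
      simp only [ev, List.map_cons, List.map_nil, List.prod_singleton] at hg
      rw [← hmq] at hg
      refine ⟨c * ⟨_, hg⟩, ⟨m, hm⟩, ?_⟩
      simp only [Subgroup.coe_mul, Fin.getElem_fin]
      group
  choose c k hck using hcover
  refine (Nat.card_le_card_of_injective (β := H × Fin D.live.length)
    (fun x : Subgroup.closure (val '' {l | l < 4}) => (c x x.2, k x x.2)) ?_).trans ?_
  · intro x y hxy
    simp only [Prod.mk.injEq] at hxy
    apply Subtype.ext
    rw [hck x x.2, hck y y.2, hxy.1, hxy.2]
  · rw [Nat.card_prod, Nat.card_fin]

end sound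

end Cert

end Cfsg.Agent.GL23Ident
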