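/-
The relators of `GL(2,3)` used by the certificates.
-/
import Mathlib.Init

set_option autoImplicit false

namespace Cfsg.Agent.GL23Ident

/-- Relators in the letters `a, s, x, w, a⁻¹, s⁻¹, x⁻¹, w⁻¹` not involving `w`. -/
def glWords : List (List Nat) := [[1, 1], [2, 2, 2], [0, 2, 0, 2], [0, 1, 1, 4], [6, 0, 2, 0, 6], [0, 2, 2, 2, 4], [2, 1, 2, 5], [4, 1, 1, 0], [4, 4, 1, 0, 5, 4], [4, 2, 0, 1, 4, 2], [0, 0, 1, 0, 0, 5], [0, 0, 1, 1, 4, 4], [0, 1, 2, 0, 0, 6], [0, 1, 2, 1, 2, 4], [0, 2, 4, 1, 6, 0], [1, 4, 1, 0, 0, 0], [1, 6, 0, 6, 4, 4], [2, 4, 1, 1, 0, 6], [2, 4, 2, 0, 5, 4], [6, 1, 6, 5], [1, 0, 1, 4, 4, 4], [0, 6, 0, 1, 4, 6], [1, 2, 2, 2, 5], [4, 4, 2, 5, 0, 6], [1, 4, 1, 1, 0, 5],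 [0, 1, 6, 1, 6, 4], [0, 0, 2, 2, 2, 4, 4], [1, 4, 2, 2, 4, 6, 5], [0, 0, 6, 0, 6, 5], [6, 0, 0, 2, 4, 5], [1, 2, 1, 2], [4, 2, 1, 0, 6, 4], [0, 2, 4, 2, 5, 0], [0, 6, 0, 2, 0, 6, 4], [0, 2, 1, 2, 5, 4], [0, 6, 0, 0, 2, 4, 5, 4], [0, 0, 6, 1, 6, 5, 4, 4], [0, 0, 0, 0, 0, 5, 0, 5], [0, 0, 0, 2, 1, 2, 4, 5], [0, 1, 6, 0, 6, 4, 4, 4], [1, 2, 0, 1, 4, 2, 4, 5], [2, 4, 1, 0, 0, 6, 4, 5], [4, 2, 0, 0, 6, 4, 5, 4], [0, 6, 1, 6, 5, 4], [0, 1, 0, 2, 0, 2, 5, 4], [1, 0, 6, 1, 6, 4, 4, 4], [0, 0, 0, 2, 2, 2, 4, 4, 4], [0, 0, 2, 0, 2, 4], [0, 0, 0, 0, 1, 4, 5, 4], [0, 0, 0, 6, 1, 6, 4, 5], [0, 0, 0, 2, 0, 2, 4, 4], [1, 2, 2, 1, 2, 2], [0, 0, 0, 1, 4, 5], [1, 0, 6, 0, 1, 4, 6, 5], [0, 1, 0, 1, 4, 4, 4,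 4], [1, 0, 2, 4, 1, 6, 0, 5], [0, 0, 0, 0, 6, 0, 6, 5, 4, 4], [0, 0, 0, 0, 6, 1, 6, 4, 5, 4], [0, 0, 1, 6, 0, 6, 4, 4, 4, 4], [1, 0, 2, 0, 2, 5], [1, 4, 1, 2, 4, 2, 4, 5], [1, 4, 2, 1, 0, 6, 4, 5], [0, 1, 0, 2, 1, 2, 4, 4, 4, 4], [0, 1, 0, 6, 1, 6, 4, 4, 4, 4], [0, 0, 0, 0, 2, 0, 2, 4, 4, 4], [0, 0, 0, 0, 2, 2, 2, 4, 4, 4, 4], [1, 0, 6, 0, 2, 0, 6, 4, 5], [0, 0, 0, 0, 2, 1, 2, 4, 5, 4], [1, 2, 0, 2, 0, 5], [0, 0, 1, 6, 1, 6, 4, 4], [2, 4, 1, 2, 4, 6, 0], [0, 1, 2, 2, 2, 5, 4], [0, 0, 0, 6, 0, 6, 5, 4], [1, 0, 0, 0, 5, 4], [0, 0, 1, 2, 1, 2, 4, 4], [2, 0, 0, 6, 0, 5], [0, 1, 0, 2, 2, 2, 4, 5, 4], [0, 0, 1, 2, 2, 2, 5, 4, 4], [4, 2, 2, 4, 6], [4, 1, 2, 4, 2, 4], [4, 2, 0, 2, 0, 0], [1, 0,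 2, 4, 2, 5, 0, 5], [0, 0, 1, 2, 0, 0, 6, 4], [1, 0, 2, 2, 2, 4, 5], [1, 4, 2, 0, 2, 5, 4, 4], [1, 0, 2, 1, 2, 4, 4, 4], [0, 0, 2, 1, 2, 5, 4, 4], [1, 6, 1, 6], [2, 0, 2, 0], [0, 1, 4, 1, 0, 0], [0, 1, 0, 0, 5, 0], [6, 0, 1, 4, 6, 0], [4, 1, 0, 5, 4, 4], [0, 1, 0, 6, 0, 5, 0, 6], [0, 0, 0, 0, 0, 0, 0, 0]]

/-- The other relators of the first certificate. -/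
def extraMat : List (List Nat) := [[3, 3], [3, 0, 0, 0, 0, 3, 1], [3, 2, 3, 3, 2, 3, 3, 2, 3], [3, 1, 0, 0, 0, 0, 3, 1, 0, 0, 0, 0], [0, 0, 0, 0, 3, 2, 3, 0, 0, 0, 0, 3, 2, 3], [0, 0, 0, 0, 0, 3, 2, 3, 4, 0, 0, 0, 0, 0, 3, 2, 3, 4], [0, 0, 3, 2, 3, 4, 4, 0, 3, 6, 3, 4, 3, 6, 3], [3, 2, 3, 0, 3, 2, 3, 4, 3, 6, 3, 0, 3, 6, 3, 4], [1, 3, 2, 3, 1, 3, 6, 3], [0, 1, 4, 3, 0, 1, 4, 3, 0, 1, 4, 3]]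

/-- The other relators of the second certificate. -/
def extraLin : List (List Nat) := [[3, 3], [3, 1, 3, 0, 0, 0, 0], [3, 2, 3, 3, 2, 3, 3, 2, 3], [3, 1, 0, 0, 0, 0, 3, 1, 0, 0, 0, 0], [1, 3, 2, 3, 1, 3, 6, 3], [0, 0, 0, 0, 0, 3, 2, 3, 4, 0, 0, 0, 0, 0, 3, 2, 3, 4], [0, 0, 3, 2, 3, 4, 4, 0, 3, 2, 3, 4, 3, 2, 3, 3, 2, 3], [0, 1, 4, 3, 0, 1, 4, 3, 0, 1, 4, 3], [0, 0, 3, 2, 3, 4, 4, 0, 3, 6, 3, 4, 0, 3, 6, 3, 4, 3, 6, 3], [3, 2, 3, 0, 3, 2, 3, 4, 3, 6, 3, 0, 3, 6, 3, 4], [0, 0, 0, 0, 3, 2, 3, 0, 0, 0, 0, 3, 2, 3]]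

end Cfsg.Agent.GL23Ident
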