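/-
Table facts about `GL(2,3)` needed for the identification.
-/
import Cfsg.Agent.Lib.GL23Cent.Model
import Cfsg.Agent.Lib.GL23Ident.Words
import Mathlib.Data.Fintype.Prod

set_option autoImplicit false

namespace Cfsg.Agent.GL23Ident

open Cfsg.Agent.GL23Cent

def iA : Fin 48 := idx (1, 2, 1, 1)
def iS : Fin 48 := idx (1, 0, 0, 2)
def iX : Fin 48 := idx (1, 1, 0, 1)
/-- The other reflection commuting with `iS`. -/
def iU : Fin 48 := idx (2, 0, 0, 1)
/-- Inverse on indices. -/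
def inv48 (k : Fin 48) : Fin 48 :=
  ((List.finRange 48).find? fun l => GL23Cent.mul k l == k1).getD k1
/-- The involution swapping `iS` and `iU`. -/
def iD : Fin 48 := GL23Cent.mul (GL23Cent.mul iA iS) (inv48 iA)

/-- Values of the letters other than `w`. -/
def letIdx : ℕ → Fin 48
  | 0 => iA | 1 => iS | 2 => iX
  | 4 => inv48 iA | 5 => inv48 iS | 6 => inv48 iX
  | _ => k1

/-- Value of a word. -/
def evIdx : List ℕ → Fin 48
  | [] => k1
  | l :: r => GL23Cent.mul (letIdx l) (evIdx r)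

theorem inv48_spec : ∀ k, GL23Cent.mul k (inv48 k) = k1 := by decide +kernel

theorem glWords_ok : ∀ r ∈ glWords, evIdx r = k1 ∧ 3 ∉ r ∧ 7 ∉ r ∧ r.all (· < 8) = true := by
  decide +kernel

/-- One step of the closure of a list under multiplication. -/
def gstep (gens : List (Fin 48)) (S : Finset (Fin 48)) : Finset (Fin 48) :=
  S ∪ gens.toFinset.biUnion fun g => S.image fun x => GL23Cent.mul x g

/-- The closure of a list under multiplication. -/
def gclose (gens : List (Fin 48)) : Finset (Fin 48) := (gstep gens)^[10] {k1}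

theorem gclose_subset {P : Fin 48 → Prop} (h1 : P k1)
    (hmul : ∀ a b, P a → P b → P (GL23Cent.mul a b)) {gens : List (Fin 48)} (hg : ∀ g ∈ gens, P g) :
    ∀ k ∈ gclose gens, P k := by
  suffices h : ∀ n, ∀ k ∈ (gstep gens)^[n] {k1}, P k from h 10
  intro n
  induction n with
  | zero => intro k hk; simp only [Function.iterate_zero_apply, Finset.mem_singleton] at hk; exact hk ▸ h1
  | succ n ih =>
    intro k hk
    rw [Function.iterate_succ_apply'] at hk
    simp only [gstep, Finset.mem_union, Finset.mem_biUnion, List.mem_toFinset, Finset.mem_image] at hk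
    rcases hk with hk | ⟨g, hg', x, hx, rfl⟩
    · exact ih k hk
    · exact hmul _ _ (ih x hx) (hg g hg')

theorem gen_all : ∀ k, k ∈ gclose [iA, iS, iX] := by decide +kernel

theorem refl_gen_all :
    ∀ k, k ∈ gclose ((List.finRange 48).filter fun r => decide (isRefl r)) := by decide +kernel

theorem base_facts :
    isRefl iS ∧ isRefl iU ∧ iS ≠ iU ∧ GL23Cent.mul iS kz = iU ∧ isRefl iD ∧
    GL23Cent.mul (GL23Cent.mul iD iS) iD = iU ∧ GL23Cent.mul (GL23Cent.mul iS iX) iS = inv48 iX ∧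
    iX ≠ k1 ∧ GL23Cent.mul iX (GL23Cent.mul iX iX) = k1 ∧
    GL23Cent.mul (GL23Cent.mul iA iA) (GL23Cent.mul iA iA) = kz ∧
    GL23Cent.mul iX iX ≠ k1 := by decide +kernel

/-- Elements commuting with `iS`. -/
theorem cent_iS : ∀ k, GL23Cent.mul k iS = GL23Cent.mul iS k →
    k = k1 ∨ k = kz ∨ k = iS ∨ k = iU := by decide +kernel

/-- Elements commuting with `iX`. -/
theorem cent_iX : ∀ k, GL23Cent.mul k iX = GL23Cent.mul iX k →
    (k = k1 ∨ k = kz ∨ k = iX ∨ k = GL23Cent.mul iX iX ∨ k = GL23Cent.mul kz iX ∨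
      k = GL23Cent.mul kz (GL23Cent.mul iX iX)) := by decide +kernel

/-- The elements of order three are conjugate. -/
theorem three_conj : ∀ k, k ≠ k1 → GL23Cent.mul k (GL23Cent.mul k k) = k1 →
    ∃ c, GL23Cent.mul c k = GL23Cent.mul iX c := by decide +kernel

/-- The Sylow `2`-subgroup containing `iA` and `iS`. -/
def syl16 : Finset (Fin 48) := gclose [iA, iS]

theorem syl16_data : syl16.card = 16 ∧ k1 ∈ syl16 ∧ kz ∈ syl16 ∧ iS ∈ syl16 ∧ iA ∈ syl16 ∧
    (∀ k ∈ syl16, ∀ l ∈ syl16, GL23Cent.mul k l ∈ syl16) ∧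
    (∀ c, GL23Cent.mul (GL23Cent.mul (inv48 c) iS) c ∈ syl16 →
      GL23Cent.mul (GL23Cent.mul (inv48 c) iA) c ∈ syl16) := by decide +kernel

/-- The cyclic subgroup of index `2` in it. -/
def cyc8 : Finset (Fin 48) := gclose [iA]

theorem cyc8_data : cyc8.card = 8 ∧ cyc8 ⊆ syl16 ∧ k1 ∈ cyc8 ∧ iS ∉ cyc8 ∧
    (∀ k ∈ cyc8, ∀ l ∈ cyc8, GL23Cent.mul k l ∈ cyc8) ∧
    (∀ k ∈ cyc8, GL23Cent.mul k k = k1 → k = k1 ∨ k = kz) := by decide +kernel

/-- Elements squaring to one. -/
theorem invol_cases : ∀ k, GL23Cent.mul k k = k1 → k = k1 ∨ k = kz ∨ isRefl k := by decide +kernel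

/-- The action of a matrix on a vector. -/
def app (q : Fin 48) (v : Fin 3 × Fin 3) : Fin 3 × Fin 3 :=
  (Fin.ofNat 3 ((els q).1 * v.1.val + (els q).2.1 * v.2.val),
    Fin.ofNat 3 ((els q).2.2.1 * v.1.val + (els q).2.2.2 * v.2.val))

/-- The diagonal matrices of the two involutions. -/
def dT : Fin 48 := idx (1, 0, 0, 2)
def dS : Fin 48 := idx (2, 0, 0, 2)

theorem app_mul : ∀ p q : Fin 48, app (GL23Cent.mul p q) (1, 0) = app p (app q (1, 0)) ∧
    app (GL23Cent.mul p q) (0, 1) = app p (app q (0, 1)) := by decide +kernel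

theorem app_lin : ∀ q (i j : Fin 3), app q (i, j) =
    ((app q (1, 0)).1 * i + (app q (0, 1)).1 * j, (app q (1, 0)).2 * i + (app q (0, 1)).2 * j) := by
  decide +kernel

theorem app_ext : ∀ p q : Fin 48, app p (1, 0) = app q (1, 0) → app p (0, 1) = app q (0, 1) → p = q := by
  decide +kernel

theorem app_id : app k1 (1, 0) = (1, 0) ∧ app k1 (0, 1) = (0, 1) ∧ app dT (1, 0) = (1, 0) ∧
    app dT (0, 1) = (0, 2) ∧ app dS (1, 0) = (2, 0) ∧ app dS (0, 1) = (0, 2) ∧
    ∀ k, GL23Cent.mul k dS = GL23Cent.mul dS k := by decide +kernel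

/-- Every invertible pair of columns occurs. -/
theorem app_surj : ∀ u v : Fin 3 × Fin 3,
    (∀ i j : Fin 3, (u.1 * i + v.1 * j, u.2 * i + v.2 * j) = ((0 : Fin 3), (0 : Fin 3)) → i = 0 ∧ j = 0) →
    ∃ q, app q (1, 0) = u ∧ app q (0, 1) = v := by decide +kernel

/-- An element of order eight acts with minimal polynomial `X² - jX - 1`. -/
theorem order_eight : ∀ q, GL23Cent.mul (GL23Cent.mul q q) (GL23Cent.mul q q) = dS →
    ∃ j : Fin 3, j ≠ 0 ∧ app q (app q (1, 0)) =
      (1 + (app q (1, 0)).1 * j, (app q (1, 0)).2 * j) := by decide +kernel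

/-- Order three and not fixing a coordinate line. -/
theorem gen_of_moving : ∀ τ, τ ≠ k1 → GL23Cent.mul τ (GL23Cent.mul τ τ) = k1 →
    (app τ (1, 0)).2 ≠ 0 → (app τ (0, 1)).1 ≠ 0 → gclose [dT, dS, τ] = Finset.univ := by
  decide +kernel

/-- Two transvections fixing the two coordinate lines. -/
theorem gen_of_fixing : ∀ τ, τ ≠ k1 → GL23Cent.mul τ (GL23Cent.mul τ τ) = k1 →
    (app τ (1, 0)).2 = 0 → ∀ τ', τ' ≠ k1 → GL23Cent.mul τ' (GL23Cent.mul τ' τ') = k1 →
    (app τ' (0, 1)).1 = 0 → gclose [dT, dS, τ, τ'] = Finset.univ := by decide +kernel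

/-- A swap with the diagonal gives at least eight elements. -/
theorem card_of_swap : ∀ q, (app q (1, 0)).1 = 0 → 5 ≤ (gclose [dT, dS, q]).card := by decide +kernel

end Cfsg.Agent.GL23Ident
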