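/-
An involution centralizer `GL(2,3)` and no quotient of order two force simplicity.
-/
import Cfsg.Agent.Lib.GL23Ident.Facts
import Cfsg.Agent.Lib.GL23Cent.Order
import Cfsg.Agent.Lib.Transfer.DihedralFusion
import Cfsg.Agent.Lib.Involution.Basic
import Cfsg.Agent.S0111

set_option autoImplicit false

namespace Cfsg.Agent.GL23Ident

open Cfsg.Agent.GL23Cent

variable {G : Type*} [Group G] {t : G}

/-- The element of `G` with a given index. -/
def elG (T : Table ↥(Subgroup.centralizer ({t} : Set G))) (k : Fin 48) : G := (T.φ.symm k : G)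

variable (T : Table ↥(Subgroup.centralizer ({t} : Set G)))

theorem elG_mul (k l : Fin 48) : elG T (GL23Cent.mul k l) = elG T k * elG T l := by
  unfold elG
  rw [← Subgroup.coe_mul]
  congr 1
  apply T.φ.injective
  rw [T.φ_mul, Equiv.apply_symm_apply, Equiv.apply_symm_apply, Equiv.apply_symm_apply]

theorem elG_k1 : elG T k1 = 1 := by
  rw [elG, ← T.φ_one, Equiv.symm_apply_apply]; rfl

theorem elG_kz (ht : orderOf t = 2) : elG T kz = t := by
  rw [elG, ← phi_t T ht, Equiv.symm_apply_apply]

theorem elG_injective : Function.Injective (elG T) := fun _ _ h =>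
  T.φ.symm.injective (Subtype.ext h)

theorem elG_mem (k : Fin 48) : elG T k ∈ Subgroup.centralizer ({t} : Set G) := (T.φ.symm k).2

theorem elG_surj {g : G} (h : g * t = t * g) : ∃ k, elG T k = g :=
  ⟨T.φ ⟨g, mem_cent_iff.mpr h⟩, by rw [elG, Equiv.symm_apply_apply]⟩

theorem elG_comm (k : Fin 48) : elG T k * t = t * elG T k := mem_cent_iff.mp (elG_mem T k)

theorem elG_inv (k : Fin 48) : elG T (inv48 k) = (elG T k)⁻¹ :=
  eq_inv_of_mul_eq_one_right (by rw [← elG_mul, inv48_spec, elG_k1])

variable [Finite G]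
include T

/-- The subgroup of the elements with index in a closed set. -/
def subOf (S : Finset (Fin 48)) (h1 : k1 ∈ S)
    (hmul : ∀ k ∈ S, ∀ l ∈ S, GL23Cent.mul k l ∈ S) : Subgroup G where
  carrier := {g | ∃ k ∈ S, elG T k = g}
  one_mem' := ⟨k1, h1, elG_k1 T⟩
  mul_mem' := by
    rintro _ _ ⟨k, hk, rfl⟩ ⟨l, hl, rfl⟩
    exact ⟨_, hmul k hk l hl, elG_mul T k l⟩
  inv_mem' := by
    rintro _ ⟨k, hk, rfl⟩
    have hpow : ∀ n : ℕ, ∃ l ∈ S, elG T l = elG T k ^ n := by
      intro n
      induction n with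
      | zero => exact ⟨k1, h1, by rw [elG_k1, pow_zero]⟩
      | succ n ih =>
        obtain ⟨l, hl, e⟩ := ih
        exact ⟨_, hmul l hl k hk, by rw [elG_mul, e, pow_succ]⟩
    obtain ⟨l, hl, e⟩ := hpow (orderOf (elG T k) - 1)
    refine ⟨l, hl, e.trans (eq_inv_of_mul_eq_one_left ?_)⟩
    rw [← pow_succ, Nat.sub_add_cancel (orderOf_pos _), pow_orderOf_eq_one]

theorem card_subOf (S : Finset (Fin 48)) (h1 : k1 ∈ S)
    (hmul : ∀ k ∈ S, ∀ l ∈ S, GL23Cent.mul k l ∈ S) : Nat.card (subOf T S h1 hmul) = S.card := by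
  have e : (subOf T S h1 hmul : Set G) = elG T '' (S : Set (Fin 48)) := rfl
  show Nat.card (subOf T S h1 hmul : Set G) = _
  rw [e, Nat.card_image_of_injective (elG_injective T), Nat.card_coe_set_eq, Set.ncard_coe_finset]

/-- The Sylow `2`-subgroup of `G` inside `C(t)`. -/
noncomputable def P16 : Subgroup G := subOf T syl16 syl16_data.2.1 syl16_data.2.2.2.2.2.1

theorem card_P16 : Nat.card (P16 T) = 16 := by rw [P16, card_subOf, syl16_data.1]

theorem exists_sylow_P16 (ht : orderOf t = 2) :
    ∃ P : Sylow 2 G, (P : Subgroup G) = P16 T := by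
  have : Fact (Nat.Prime 2) := ⟨Nat.prime_two⟩
  obtain ⟨o, ho, hg⟩ := card_eq_sixteen_mul T ht
  refine ⟨Sylow.ofCard (P16 T) ?_, rfl⟩
  rw [card_P16, hg, Nat.factorization_mul (by norm_num) ho.pos.ne',
    Finsupp.add_apply, Nat.factorization_eq_zero_of_not_dvd (n := o) (fun h =>
      Nat.not_even_iff_odd.mpr ho (even_iff_two_dvd.mpr h)), add_zero,
    show (16 : ℕ) = 2 ^ 4 by norm_num, Nat.Prime.factorization_pow Nat.prime_two,
    Finsupp.single_eq_same]

/-- All involutions are conjugate. -/
theorem invol_conj (ht : orderOf t = 2) (hres : Cfsg.pResidual 2 G = ⊤) :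
    ∀ u : G, orderOf u = 2 → IsConj t u := by
  have : Fact (Nat.Prime 2) := ⟨Nat.prime_two⟩
  obtain ⟨P, hP⟩ := exists_sylow_P16 T ht
  obtain ⟨c8, csub, c1, cS, cmul, cinv⟩ := cyc8_data
  obtain ⟨s16, s1, sz, sS, sA, smul, -⟩ := syl16_data
  obtain ⟨rS, -⟩ := base_facts
  let Q : Subgroup G := subOf T cyc8 c1 cmul
  have hQP : Q ≤ (P : Subgroup G) := by
    rw [hP]
    rintro _ ⟨k, hk, rfl⟩
    exact ⟨k, csub hk, rfl⟩
  have hQi : Q.relIndex (P : Subgroup G) = 2 := by
    have h := Subgroup.card_mul_index (Q.subgroupOf (P : Subgroup G))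
    rw [Nat.card_congr (Subgroup.subgroupOfEquivOfLe hQP).toEquiv] at h
    rw [hP, card_P16, card_subOf, c8] at h
    rw [Subgroup.relIndex, hP]
    omega
  have hsq : ∀ k, GL23Cent.mul k k = k1 → k ≠ k1 → orderOf (elG T k) = 2 := fun k h h' =>
    Involution.orderOf_of_sq (by rw [← elG_mul, h, elG_k1])
      (fun e => h' (elG_injective T (e.trans (elG_k1 T).symm)))
  have hs : IsConj t (elG T iS) := by
    rcases Cfsg.Agent.S0111.result P Q hQP hQi (elG T iS) (hsq _ rS.1 rS.2.1) (hP ▸ ⟨_, sS, rfl⟩)
      (fun ⟨k, hk, e⟩ => cS (elG_injective T e ▸ hk)) with ⟨M, -, hM, -⟩ | ⟨g, k, hk, e⟩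
    · exact absurd hres (Transfer.exists_index_two_iff.mp ⟨M, hM⟩)
    · have hkk : GL23Cent.mul k k = k1 := elG_injective T (by
        rw [elG_mul, e, elG_k1, Involution.mul_self ((Involution.orderOf_conj g _).trans (hsq _ rS.1 rS.2.1))])
      rcases cinv k hk hkk with rfl | rfl
      · exfalso
        rw [elG_k1] at e
        have : elG T iS = 1 := by simpa using e.symm
        exact Involution.ne_one (hsq _ rS.1 rS.2.1) this
      · rw [elG_kz T ht] at e
        exact (isConj_iff.mpr ⟨g, e.symm⟩).symm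
  intro u hu
  obtain ⟨P', hP'⟩ := (IsPGroup.of_card (n := 1)
    (by rw [Nat.card_zpowers, hu, pow_one]) : IsPGroup 2 (Subgroup.zpowers u)).exists_le_sylow
  obtain ⟨g, hg⟩ := MulAction.exists_smul_eq G P' P
  have huP : g * u * g⁻¹ ∈ (P : Subgroup G) := by
    rw [← hg]
    exact ⟨u, hP' (Subgroup.mem_zpowers u), rfl⟩
  rw [hP] at huP
  obtain ⟨k, -, e⟩ := huP
  have ho : orderOf (g * u * g⁻¹) = 2 := (Involution.orderOf_conj g u).trans hu
  have hkk : GL23Cent.mul k k = k1 := elG_injective T (by
    rw [elG_mul, e, elG_k1, Involution.mul_self ho])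
  refine IsConj.trans ?_ (isConj_iff.mpr ⟨g, rfl⟩ : IsConj u (g * u * g⁻¹)).symm
  rcases invol_cases k hkk with rfl | rfl | hr
  · rw [elG_k1] at e; exact absurd e.symm (Involution.ne_one ho)
  · rw [elG_kz T ht] at e; rw [e]
  · rw [← e]
    obtain ⟨c, hc⟩ := refl_conj _ _ rS hr
    have h := congrArg (elG T) hc
    rw [elG_mul, elG_mul] at h
    exact hs.trans (isConj_iff.mpr ⟨elG T c, by rw [h]; group⟩)

/-- The group is simple. -/
theorem isSimpleGroup (ht : orderOf t = 2) (hres : Cfsg.pResidual 2 G = ⊤) : IsSimpleGroup G := by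
  have : Fact (Nat.Prime 2) := ⟨Nat.prime_two⟩
  have : Nontrivial G := ⟨⟨t, 1, Involution.ne_one ht⟩⟩
  have hconj := invol_conj T ht hres
  obtain ⟨rS, rU, hne, hSU, -⟩ := base_facts
  refine ⟨fun M hM => ?_⟩
  by_cases hev : 2 ∣ Nat.card M
  · right
    obtain ⟨u, hu⟩ := exists_prime_orderOf_dvd_card' 2 hev
    have hall : ∀ z : G, orderOf z = 2 → z ∈ M := by
      intro z hz
      obtain ⟨c, rfl⟩ := isConj_iff.mp ((hconj u (by rw [Subgroup.orderOf_coe, hu])).symm.trans (hconj z hz))
      exact hM.conj_mem _ u.2 c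
    have hC : ∀ k, elG T k ∈ M := fun k =>
      gclose_subset (P := fun k => elG T k ∈ M) (by rw [elG_k1]; exact M.one_mem)
        (fun a b ha hb => by rw [elG_mul]; exact M.mul_mem ha hb)
        (fun r hr => by
          simp only [List.mem_filter, decide_eq_true_eq] at hr
          exact hall _ (Involution.orderOf_of_sq (by rw [← elG_mul, hr.2.1, elG_k1])
            (fun e => hr.2.2.1 (elG_injective T (e.trans (elG_k1 T).symm))))) k (refl_gen_all k)
    obtain ⟨P, hP⟩ := exists_sylow_P16 T ht
    have hPM : (P : Subgroup G) ≤ M := by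
      rw [hP]; rintro _ ⟨k, -, rfl⟩; exact hC k
    have hNP : Subgroup.normalizer ((P : Subgroup G) : Set G) ≤ Subgroup.centralizer ({t} : Set G) := by
      intro n hn
      obtain ⟨s16, s1, sz, sS, sA, smul, -⟩ := syl16_data
      have htP : t ∈ (P : Subgroup G) := by rw [hP]; exact ⟨kz, sz, elG_kz T ht⟩
      have h1 : n * t * n⁻¹ ∈ (P : Subgroup G) := (Subgroup.mem_normalizer_iff.mp hn t).mp htP
      rw [hP] at h1
      obtain ⟨k, hk, e⟩ := h1
      -- the image is central in the Sylow subgroup
      have hcomm : ∀ l ∈ syl16, GL23Cent.mul l k = GL23Cent.mul k l := by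
        intro l hl
        have hlP : n⁻¹ * elG T l * n ∈ (P : Subgroup G) := by
          have := (Subgroup.mem_normalizer_iff.mp (Subgroup.inv_mem _ hn) (elG T l)).mp (hP ▸ ⟨l, hl, rfl⟩)
          simpa using this
        rw [hP] at hlP
        obtain ⟨m, -, em⟩ := hlP
        apply elG_injective T
        rw [elG_mul, elG_mul, e, show elG T l = n * elG T m * n⁻¹ by rw [em]; group]
        calc n * elG T m * n⁻¹ * (n * t * n⁻¹) = n * (elG T m * t) * n⁻¹ := by group
          _ = n * (t * elG T m) * n⁻¹ := by rw [elG_comm]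
          _ = _ := by group
      have hk' : k = k1 ∨ k = kz := by
        have : ∀ k ∈ syl16, (∀ l ∈ syl16, GL23Cent.mul l k = GL23Cent.mul k l) → k = k1 ∨ k = kz := by
          decide +kernel
        exact this k hk hcomm
      rcases hk' with rfl | rfl
      · rw [elG_k1] at e
        exact absurd (by simpa using e.symm) (Involution.ne_one ht)
      · rw [elG_kz T ht] at e
        exact mem_cent_iff.mpr (mul_inv_eq_iff_eq_mul.mp e.symm)
    have hsup := Sylow.normalizer_sup_eq_top (P.subtype hPM)
    rw [eq_top_iff, ← hsup]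
    refine sup_le (fun n hn => ?_) le_rfl
    rw [Sylow.coe_subtype, Subgroup.map_subgroupOf_eq_of_le hPM] at hn
    obtain ⟨k, rfl⟩ := elG_surj T (mem_cent_iff.mp (hNP hn))
    exact hC k
  · left
    have hodd : Odd (Nat.card M) := Nat.not_even_iff_odd.mp fun h => hev (even_iff_two_dvd.mp h)
    rw [Subgroup.eq_bot_iff_forall]
    intro m hm
    -- every involution inverts `M`
    have hinv : ∀ u : G, orderOf u = 2 → ∀ m ∈ M, u * m * u = m⁻¹ := by
      intro u hu m hm
      obtain ⟨c, rfl⟩ := isConj_iff.mp (hconj u hu)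
      have hfix : ∀ z ∈ M, z * t = t * z → z = 1 := by
        intro z hz hzt
        -- the trace of `M` on `C(t)` is normal of odd order
        obtain ⟨k, rfl⟩ := elG_surj T hzt
        by_contra hk1
        have hk : k ≠ k1 := fun e => hk1 (by rw [e, elG_k1])
        have h48 : orderOf (elG T k) ∣ 48 := by
          rw [← T.card_eq, ← Subgroup.orderOf_mk (elG T k) (elG_mem T k)]; exact orderOf_dvd_natCard _
        have hM' : orderOf (elG T k) ∣ Nat.card M := by
          rw [← Subgroup.orderOf_mk (elG T k) hz]; exact orderOf_dvd_natCard _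
        have h3 : orderOf (elG T k) ∣ 3 := by
          have hcop : Nat.Coprime (orderOf (elG T k)) 16 := by
            rw [show (16 : ℕ) = 2 ^ 4 by norm_num]
            refine Nat.Coprime.pow_right 4 ?_
            rw [Nat.coprime_two_right]
            exact hodd.of_dvd_nat hM'
          exact hcop.dvd_of_dvd_mul_left (n := 3) (show orderOf (elG T k) ∣ 16 * 3 from h48)
        have hk3 : GL23Cent.mul k (GL23Cent.mul k k) = k1 := elG_injective T (by
          rw [elG_mul, elG_mul, elG_k1, ← mul_assoc, ← sq, ← pow_succ]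
          exact orderOf_dvd_iff_pow_eq_one.mp h3)
        obtain ⟨c, hc⟩ := three_conj k hk hk3
        have hx : elG T iX ∈ M := by
          have h := congrArg (elG T) hc
          rw [elG_mul, elG_mul] at h
          rw [show elG T iX = elG T c * elG T k * (elG T c)⁻¹ by rw [h]; group]
          exact hM.conj_mem _ hz _
        have htM : t ∈ M := by
          rw [← elG_kz T ht]
          refine gclose_subset (P := fun k => elG T k ∈ M) (by rw [elG_k1]; exact M.one_mem)
            (fun a b ha hb => by rw [elG_mul]; exact M.mul_mem ha hb)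
            (gens := (List.finRange 48).map fun c => GL23Cent.mul (GL23Cent.mul c iX) (inv48 c))
            ?_ kz (by decide +kernel)
          intro g hg
          simp only [List.mem_map] at hg
          obtain ⟨d, -, rfl⟩ := hg
          rw [elG_mul, elG_mul, elG_inv]
          exact hM.conj_mem _ hx _
        exact hev (by rw [← ht, ← Subgroup.orderOf_mk t htM]; exact orderOf_dvd_natCard _)
      have ht2 := Involution.mul_self ht
      have hti : t⁻¹ = t := Involution.inv_eq ht
      have hsurj : Function.Surjective fun z : M =>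
          (⟨(z : G)⁻¹ * (t * z * t), M.mul_mem (M.inv_mem z.2)
            (by have := hM.conj_mem _ z.2 t; rwa [hti] at this)⟩ : M) := by
        refine Finite.injective_iff_surjective.mp fun a b h => ?_
        have h' : (a : G)⁻¹ * (t * a * t) = (b : G)⁻¹ * (t * b * t) := congrArg Subtype.val h
        have : (b : G) * (a : G)⁻¹ * t = t * ((b : G) * (a : G)⁻¹) := by
          calc (b : G) * (a : G)⁻¹ * t
              = (b : G) * ((a : G)⁻¹ * (t * a * t)) * ((t * (a : G)⁻¹)) * (t * t) := by
                simp only [mul_assoc, ← mul_assoc t t, ht2, one_mul, mul_one, mul_inv_cancel_left,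
                  mul_inv_cancel]
            _ = (b : G) * ((b : G)⁻¹ * (t * b * t)) * ((t * (a : G)⁻¹)) * (t * t) := by rw [h']
            _ = _ := by
                simp only [mul_assoc, ← mul_assoc t t, ht2, one_mul, mul_one, mul_inv_cancel_left]
        have := hfix _ (M.mul_mem b.2 (M.inv_mem a.2)) this
        exact Subtype.ext (mul_inv_eq_one.mp this).symm
      have hall : ∀ z ∈ M, t * z * t = z⁻¹ := by
        intro z hz
        obtain ⟨y, hy⟩ := hsurj ⟨z, hz⟩
        have hy' : (y : G)⁻¹ * (t * y * t) = z := congrArg Subtype.val hy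
        rw [← hy']
        simp only [mul_inv_rev, inv_inv, hti, mul_assoc, ← mul_assoc t t, ht2, one_mul, mul_one]
      have := hall _ (by simpa using hM.conj_mem _ hm c⁻¹ : c⁻¹ * m * c ∈ M)
      calc c * t * c⁻¹ * m * (c * t * c⁻¹) = c * (t * (c⁻¹ * m * c) * t) * c⁻¹ := by group
        _ = m⁻¹ := by rw [this]; group
    have hord : ∀ k, isRefl k → orderOf (elG T k) = 2 := fun k hk =>
      Involution.orderOf_of_sq (by rw [← elG_mul, hk.1, elG_k1])
        (fun e => hk.2.1 (elG_injective T (e.trans (elG_k1 T).symm)))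
    have h1 := hinv _ (hord _ rS) m hm
    have h2 := hinv _ (hord _ rU) m hm
    have h3 := hinv t ht m hm
    have hUS : elG T iU = elG T iS * t := by rw [← hSU, elG_mul, elG_kz T ht]
    have e : m = m⁻¹ := by
      calc m = t * (t * m * t) * t := by
            simp only [mul_assoc, ← mul_assoc t t, Involution.mul_self ht, one_mul, mul_one]
        _ = t * m⁻¹ * t := by rw [h3]
        _ = t * (elG T iS * m * elG T iS) * t := by rw [h1]
        _ = (t * elG T iS) * m * (elG T iS * t) := by group
        _ = elG T iU * m * elG T iU := by rw [← elG_comm T iS, ← hUS]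
        _ = m⁻¹ := h2
    have hm2 : m * m = 1 := by
      calc m * m = m * m⁻¹ := by rw [← e]
        _ = 1 := mul_inv_cancel m
    by_contra hm1
    exact hev (by
      rw [← Involution.orderOf_of_sq hm2 hm1, ← Subgroup.orderOf_mk m hm]
      exact orderOf_dvd_natCard _)

end Cfsg.Agent.GL23Ident
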