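/-
The normalised subgroup of order nine in a group with involution centralizer `GL(2,3)`.
-/
import Cfsg.Agent.Lib.GL23Ident.Simple
import Cfsg.Agent.Lib.Coprime.Generation
import Cfsg.Agent.Lib.Coprime.Invariant
import Cfsg.Agent.Lib.Involution.IndexTwo
import Cfsg.Agent.Lib.Involution.Real

set_option autoImplicit false

namespace Cfsg.Agent.GL23Ident

open Cfsg.Agent.GL23Cent
open scoped Pointwise

/-- The twist by the sign character. -/
def kap (k : Fin 48) : Fin 48 := if eps k = 1 then k else GL23Cent.mul k kz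

theorem kap_data : (∀ k, kap (kap k) = k) ∧
    (∀ k l, kap (GL23Cent.mul k l) = GL23Cent.mul (kap k) (kap l)) ∧
    kap iX = iX ∧ kap kz = kz ∧ kap iS = iU := by decide +kernel

theorem cent_gcd : ∀ k, GL23Cent.mul k iX = GL23Cent.mul iX k →
    GL23Cent.mul (GL23Cent.mul (GL23Cent.mul k k) (GL23Cent.mul k k)) (GL23Cent.mul k k) = k1 := by
  decide +kernel

/-- Elements of order three inverted by `iS`. -/
theorem inverted_iS : ∀ k, k ≠ k1 → GL23Cent.mul k (GL23Cent.mul k k) = k1 →
    GL23Cent.mul (GL23Cent.mul iS k) iS = inv48 k →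
    k = iX ∨ k = GL23Cent.mul iX iX ∨ k = GL23Cent.mul (GL23Cent.mul iD iX) iD ∨
      k = GL23Cent.mul (GL23Cent.mul iD (GL23Cent.mul iX iX)) iD := by decide +kernel

theorem klein_data : GL23Cent.mul iS iS = k1 ∧ GL23Cent.mul iU iU = k1 ∧ GL23Cent.mul iD iD = k1 ∧
    GL23Cent.mul iU kz = iS ∧ GL23Cent.mul iS iU = kz ∧ GL23Cent.mul iU iS = kz ∧
    GL23Cent.mul (GL23Cent.mul iU iX) iU = inv48 iX ∧
    inv48 iX = GL23Cent.mul iX iX ∧ GL23Cent.mul iA iA ≠ k1 ∧
    iD = GL23Cent.mul (GL23Cent.mul iA iS) (inv48 iA) := by decide +kernel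

variable {G : Type*} [Group G]

/-- The standing hypotheses on the group and the involution. -/
structure Hyp (t : G) : Prop where
  ord : orderOf t = 2
  conj : ∀ u : G, orderOf u = 2 → IsConj t u
  card : Nat.card G = 7920 ∨ Nat.card G = 5616

variable {t : G} (T : Table ↥(Subgroup.centralizer ({t} : Set G)))

theorem elG_pow_four (ht : orderOf t = 2) : elG T iA ^ 4 = t := by
  rw [show elG T iA ^ 4 = elG T iA * elG T iA * (elG T iA * elG T iA) by simp [pow_succ, mul_assoc],
    ← elG_mul, ← elG_mul,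
    base_facts.2.2.2.2.2.2.2.2.2.1, elG_kz T ht]

theorem elG_sq {k : Fin 48} (h : GL23Cent.mul k k = k1) : elG T k * elG T k = 1 := by
  rw [← elG_mul, h, elG_k1]

theorem elG_ne_one {k : Fin 48} (h : k ≠ k1) : elG T k ≠ 1 := fun e =>
  h (elG_injective T (e.trans (elG_k1 T).symm))

theorem orderOf_refl {r : Fin 48} (h : isRefl r) : orderOf (elG T r) = 2 :=
  Involution.orderOf_of_sq (elG_sq T h.1) (elG_ne_one T h.2.1)

theorem eq_of_cent {x : G} (hxt : x * t = t * x) (hxs : x * elG T iS = elG T iS * x) (ht : orderOf t = 2) :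
    x = 1 ∨ x = t ∨ x = elG T iS ∨ x = elG T iU := by
  obtain ⟨k, rfl⟩ := elG_surj T hxt
  rw [← elG_mul, ← elG_mul] at hxs
  rcases cent_iS k (elG_injective T hxs) with rfl | rfl | rfl | rfl
  · exact Or.inl (elG_k1 T)
  · exact Or.inr (Or.inl (elG_kz T ht))
  · exact Or.inr (Or.inr (Or.inl rfl))
  · exact Or.inr (Or.inr (Or.inr rfl))

include T in
/-- An element of the centralizer of an involution with commuting cube roots. -/
theorem three_cent (hH : Hyp t) {r x y : G} (hr : orderOf r = 2) (hxr : x * r = r * x) (hyr : y * r = r * y)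
    (hxy : x * y = y * x) (hx : x ^ 3 = 1) (hy : y ^ 3 = 1) (hy1 : y ≠ 1) :
    x = 1 ∨ x = y ∨ x = y * y := by
  obtain ⟨c, hc⟩ := isConj_iff.mp (hH.conj r hr)
  have hcom : ∀ z : G, z * r = r * z → c⁻¹ * z * c * t = t * (c⁻¹ * z * c) := by
    intro z hz
    calc c⁻¹ * z * c * t = c⁻¹ * (z * r) * c := by rw [← hc]; group
      _ = c⁻¹ * (r * z) * c := by rw [hz]
      _ = _ := by rw [← hc]; group
  obtain ⟨a, ha⟩ := elG_surj T (hcom x hxr)
  obtain ⟨b, hb⟩ := elG_surj T (hcom y hyr)
  have hab : GL23Cent.mul a b = GL23Cent.mul b a := elG_injective T (by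
    rw [elG_mul, elG_mul, ha, hb]
    calc c⁻¹ * x * c * (c⁻¹ * y * c) = c⁻¹ * (x * y) * c := by group
      _ = c⁻¹ * (y * x) * c := by rw [hxy]
      _ = _ := by group)
  have hcube : ∀ z e, elG T e = c⁻¹ * z * c → z ^ 3 = 1 → GL23Cent.mul e (GL23Cent.mul e e) = k1 := by
    intro z e he hz
    apply elG_injective T
    rw [elG_mul, elG_mul, he, elG_k1]
    calc c⁻¹ * z * c * (c⁻¹ * z * c * (c⁻¹ * z * c)) = c⁻¹ * (z * (z * z)) * c := by group
      _ = 1 := by rw [← sq, ← pow_succ', hz]; group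
  have hb1 : b ≠ k1 := fun e => hy1 (by
    rw [e, elG_k1] at hb
    calc y = c * (c⁻¹ * y * c) * c⁻¹ := by group
      _ = 1 := by rw [← hb]; group)
  have back : ∀ e z, elG T e = c⁻¹ * z * c → z = c * elG T e * c⁻¹ := fun e z he => by rw [he]; group
  have key : ∀ a b, b ≠ k1 → GL23Cent.mul a (GL23Cent.mul a a) = k1 → GL23Cent.mul b (GL23Cent.mul b b) = k1 →
      GL23Cent.mul a b = GL23Cent.mul b a → a = k1 ∨ a = b ∨ a = GL23Cent.mul b b := by decide +kernel
  rcases key a b hb1 (hcube x a ha hx) (hcube y b hb hy) hab with rfl | rfl | rfl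
  · left; rw [back _ _ ha, elG_k1]; group
  · right; left; rw [back _ _ ha, back _ _ hb]
  · right; right; rw [back _ _ ha, elG_mul, hb]; group

include T in
/-- Two such elements centralising a third element outside the centralizer commute. -/
theorem three_comm (hH : Hyp t) {r x y m : G} (hr : orderOf r = 2) (hxr : x * r = r * x) (hyr : y * r = r * y)
    (hx : x ^ 3 = 1) (hy : y ^ 3 = 1) (hxm : x * m = m * x) (hym : y * m = m * y) (hm : m * r ≠ r * m) :
    x * y = y * x := by
  obtain ⟨c, hc⟩ := isConj_iff.mp (hH.conj r hr)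
  have hcom : ∀ z : G, z * r = r * z → c⁻¹ * z * c * t = t * (c⁻¹ * z * c) := by
    intro z hz
    calc c⁻¹ * z * c * t = c⁻¹ * (z * r) * c := by rw [← hc]; group
      _ = c⁻¹ * (r * z) * c := by rw [hz]
      _ = _ := by rw [← hc]; group
  obtain ⟨a, ha⟩ := elG_surj T (hcom x hxr)
  obtain ⟨b, hb⟩ := elG_surj T (hcom y hyr)
  by_contra hne
  have hab : GL23Cent.mul a b ≠ GL23Cent.mul b a := fun e => hne (by
    have h := congrArg (elG T) e
    rw [elG_mul, elG_mul, ha, hb] at h
    calc x * y = c * ((c⁻¹ * x * c) * (c⁻¹ * y * c)) * c⁻¹ := by group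
      _ = c * ((c⁻¹ * y * c) * (c⁻¹ * x * c)) * c⁻¹ := by rw [h]
      _ = _ := by group)
  have cube : ∀ (z : G) (e : Fin 48), elG T e = c⁻¹ * z * c → z ^ 3 = 1 →
      GL23Cent.mul e (GL23Cent.mul e e) = k1 := by
    intro z e he hz
    apply elG_injective T
    rw [elG_mul, elG_mul, he, elG_k1]
    calc c⁻¹ * z * c * (c⁻¹ * z * c * (c⁻¹ * z * c)) = c⁻¹ * (z * (z * z)) * c := by group
      _ = 1 := by rw [← sq, ← pow_succ', hz]; group
  have two : ∀ a b, GL23Cent.mul a (GL23Cent.mul a a) = k1 → GL23Cent.mul b (GL23Cent.mul b b) = k1 →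
      GL23Cent.mul a b ≠ GL23Cent.mul b a →
      GL23Cent.mul (GL23Cent.mul a b) (GL23Cent.mul a b) = kz ∨
        GL23Cent.mul (GL23Cent.mul a b) (GL23Cent.mul (GL23Cent.mul a b) (GL23Cent.mul a b)) = kz := by
    decide +kernel
  -- a power of the product is the involution, which would then commute with `m`
  have hprod : Commute m (x * y) := Commute.mul_right (hxm.symm : Commute m x) (hym.symm : Commute m y)
  suffices h : Commute m r from hm h.eq
  set p := elG T (GL23Cent.mul a b) with hp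
  have hp' : c * p * c⁻¹ = x * y := by rw [hp, elG_mul, ha, hb]; group
  rcases two a b (cube _ a ha hx) (cube _ b hb hy) hab with e | e
  · have h : p * p = t := by rw [hp, ← elG_mul, e, elG_kz T hH.ord]
    have : r = (x * y) * (x * y) := by rw [← hc, ← h, ← hp']; group
    rw [this]; exact hprod.mul_right hprod
  · have h : p * (p * p) = t := by rw [hp, ← elG_mul, ← elG_mul, e, elG_kz T hH.ord]
    have : r = (x * y) * ((x * y) * (x * y)) := by rw [← hc, ← h, ← hp']; group
    rw [this]; exact hprod.mul_right (hprod.mul_right hprod)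

include T in
/-- An element of order three in an involution centralizer is conjugate to `iX`. -/
theorem conj_k (hH : Hyp t) {r x : G} (hr : orderOf r = 2) (hxr : x * r = r * x) (hx : x ^ 3 = 1) (hx1 : x ≠ 1) :
    IsConj (elG T iX) x := by
  obtain ⟨c, hc⟩ := isConj_iff.mp (hH.conj r hr)
  obtain ⟨e, he⟩ := elG_surj T (g := c⁻¹ * x * c) (by
    calc c⁻¹ * x * c * t = c⁻¹ * (x * r) * c := by rw [← hc]; group
      _ = c⁻¹ * (r * x) * c := by rw [hxr]
      _ = _ := by rw [← hc]; group)
  have hee : GL23Cent.mul e (GL23Cent.mul e e) = k1 := by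
    apply elG_injective T
    rw [elG_mul, elG_mul, he, elG_k1]
    calc c⁻¹ * x * c * (c⁻¹ * x * c * (c⁻¹ * x * c)) = c⁻¹ * (x * (x * x)) * c := by group
      _ = 1 := by rw [← sq, ← pow_succ', hx]; group
  have hne : e ≠ k1 := fun h => hx1 (by
    rw [h, elG_k1] at he
    calc x = c * (c⁻¹ * x * c) * c⁻¹ := by group
      _ = 1 := by rw [← he]; group)
  obtain ⟨d, hd⟩ := three_conj e hne hee
  have h := congrArg (elG T) hd
  rw [elG_mul, elG_mul, he] at h
  refine isConj_iff.mpr ⟨c * (elG T d)⁻¹, ?_⟩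
  calc c * (elG T d)⁻¹ * elG T iX * (c * (elG T d)⁻¹)⁻¹
      = c * (elG T d)⁻¹ * (elG T iX * elG T d) * c⁻¹ := by group
    _ = x := by rw [← h]; group

include T in
/-- The involution centralizer has order `48`. -/
theorem pow_48 (hH : Hyp t) {r x : G} (hr : orderOf r = 2) (hxr : x * r = r * x) : x ^ 48 = 1 := by
  obtain ⟨c, hc⟩ := isConj_iff.mp (hH.conj r hr)
  have hx : c⁻¹ * x * c ∈ Subgroup.centralizer ({t} : Set G) := by
    refine mem_cent_iff.mpr ?_
    calc c⁻¹ * x * c * t = c⁻¹ * (x * r) * c := by rw [← hc]; group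
      _ = c⁻¹ * (r * x) * c := by rw [hxr]
      _ = _ := by rw [← hc]; group
  have h := pow_card_eq_one' (x := (⟨_, hx⟩ : Subgroup.centralizer ({t} : Set G)))
  rw [T.card_eq] at h
  have h' : (c⁻¹ * x * c) ^ 48 = 1 := congrArg Subtype.val h
  have e := conj_pow (i := 48) (a := c⁻¹) (b := x)
  rw [inv_inv, h'] at e
  calc x ^ 48 = c * (c⁻¹ * x ^ 48 * c) * c⁻¹ := by group
    _ = 1 := by rw [← e]; group

include T in
theorem pow_three_of_odd [Finite G] (hH : Hyp t) {r x : G} (hr : orderOf r = 2) (hxr : x * r = r * x)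
    (hx : Odd (orderOf x)) : x ^ 3 = 1 := by
  have h := orderOf_dvd_of_pow_eq_one (pow_48 T hH hr hxr)
  have hcop : Nat.Coprime (orderOf x) 16 :=
    Nat.Coprime.pow_right 4 (Nat.coprime_two_right.mpr hx)
  exact orderOf_dvd_iff_pow_eq_one.mp
    (hcop.dvd_of_dvd_mul_left (n := 3) (show orderOf x ∣ 16 * 3 from h))

include T in
/-- An involution fixing `r` and exchanging the two other involutions of a four-group containing it. -/
theorem exists_swap (hH : Hyp t) {r p : G} (hr : orderOf r = 2) (hp : orderOf p = 2)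
    (hpr : p * r = r * p) (hne : p ≠ r) :
    ∃ w : G, w * w = 1 ∧ w * r * w = r ∧ w * p * w = p * r ∧ w * (p * r) * w = p := by
  obtain ⟨c, hc⟩ := isConj_iff.mp (hH.conj r hr)
  obtain ⟨e, he⟩ := elG_surj T (g := c⁻¹ * p * c) (by
    calc c⁻¹ * p * c * t = c⁻¹ * (p * r) * c := by rw [← hc]; group
      _ = c⁻¹ * (r * p) * c := by rw [hpr]
      _ = _ := by rw [← hc]; group)
  have hsq : GL23Cent.mul e e = k1 := elG_injective T (by
    rw [elG_mul, he, elG_k1]
    calc c⁻¹ * p * c * (c⁻¹ * p * c) = c⁻¹ * (p * p) * c := by group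
      _ = 1 := by rw [Involution.mul_self hp]; group)
  have back : p = c * elG T e * c⁻¹ := by rw [he]; group
  rcases invol_cases e hsq with rfl | rfl | hre
  · exfalso
    rw [elG_k1] at back
    exact Involution.ne_one hp (by rw [back]; group)
  · exfalso
    rw [elG_kz T hH.ord, hc] at back
    exact hne back
  · obtain ⟨d, hd⟩ := refl_conj _ _ hre base_facts.1
    have hd' := congrArg (elG T) hd
    rw [elG_mul, elG_mul] at hd'
    obtain ⟨-, -, hDD, hUz, -⟩ := klein_data
    set g := c * (elG T d)⁻¹ with hg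
    have gp : g * elG T iS * g⁻¹ = p := by
      rw [hg, back]
      calc c * (elG T d)⁻¹ * elG T iS * (c * (elG T d)⁻¹)⁻¹
          = c * (elG T d)⁻¹ * (elG T iS * elG T d) * c⁻¹ := by group
        _ = _ := by rw [← hd']; group
    have gr : g * t * g⁻¹ = r := by
      rw [hg, ← hc]
      calc c * (elG T d)⁻¹ * t * (c * (elG T d)⁻¹)⁻¹
          = c * ((elG T d)⁻¹ * (t * elG T d)) * c⁻¹ := by group
        _ = _ := by rw [← elG_comm]; group
    have gq : g * elG T iU * g⁻¹ = p * r := by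
      rw [← gp, ← gr, ← base_facts.2.2.2.1, elG_mul, elG_kz T hH.ord]; group
    refine ⟨g * elG T iD * g⁻¹, ?_, ?_, ?_, ?_⟩
    · calc _ = g * (elG T iD * elG T iD) * g⁻¹ := by group
        _ = 1 := by rw [elG_sq T hDD]; group
    · have hfix : elG T iD * t * elG T iD = t := by
        rw [elG_comm, mul_assoc, elG_sq T hDD, mul_one]
      calc _ = g * (elG T iD * t * elG T iD) * g⁻¹ := by rw [← gr]; group
        _ = r := by rw [hfix, gr]
    · calc _ = g * (elG T iD * elG T iS * elG T iD) * g⁻¹ := by rw [← gp]; group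
        _ = p * r := by rw [← elG_mul, ← elG_mul, base_facts.2.2.2.2.2.1, gq]
    · have hback : elG T iD * elG T iU * elG T iD = elG T iS := by
        rw [← base_facts.2.2.2.2.2.1, elG_mul, elG_mul]
        calc elG T iD * (elG T iD * elG T iS * elG T iD) * elG T iD
            = (elG T iD * elG T iD) * elG T iS * (elG T iD * elG T iD) := by group
          _ = _ := by rw [elG_sq T hDD, one_mul, mul_one]
      calc _ = g * (elG T iD * elG T iU * elG T iD) * g⁻¹ := by rw [← gq]; group
        _ = p := by rw [hback, gp]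

/-- The four-group of `t` and the reflection. -/
def V4 [Finite G] : Subgroup G :=
  subOf T {k1, kz, iS, iU} (by decide +kernel) (by decide +kernel)

section

variable [Finite G]

theorem card_V4 : Nat.card (V4 T) = 4 := by
  rw [V4, card_subOf]; decide +kernel

theorem mem_V4 (ht : orderOf t = 2) {a : G} (ha : a ∈ V4 T) :
    a = 1 ∨ a = t ∨ a = elG T iS ∨ a = elG T iU := by
  obtain ⟨k, hk, rfl⟩ := ha
  simp only [Finset.mem_insert, Finset.mem_singleton] at hk
  rcases hk with rfl | rfl | rfl | rfl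
  · exact Or.inl (elG_k1 T)
  · exact Or.inr (Or.inl (elG_kz T ht))
  · exact Or.inr (Or.inr (Or.inl rfl))
  · exact Or.inr (Or.inr (Or.inr rfl))

theorem V4_comm : IsMulCommutative (V4 T) := by
  refine ⟨⟨?_⟩⟩
  rintro ⟨_, k, hk, rfl⟩ ⟨_, l, hl, rfl⟩
  apply Subtype.ext
  show elG T k * elG T l = elG T l * elG T k
  have : ∀ k ∈ ({k1, kz, iS, iU} : Finset (Fin 48)), ∀ l ∈ ({k1, kz, iS, iU} : Finset (Fin 48)),
      GL23Cent.mul k l = GL23Cent.mul l k := by decide +kernel
  rw [← elG_mul, ← elG_mul, this k hk l hl]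

theorem V4_not_cyclic : ¬ IsCyclic (V4 T) := by
  intro h
  obtain ⟨g, hg⟩ := h.exists_generator
  have h4 := orderOf_eq_card_of_forall_mem_zpowers hg
  rw [card_V4] at h4
  have h2 : g ^ 2 = 1 := by
    obtain ⟨_, k, hk, rfl⟩ := g
    apply Subtype.ext
    show elG T k ^ 2 = 1
    rw [sq]
    have : ∀ k ∈ ({k1, kz, iS, iU} : Finset (Fin 48)), GL23Cent.mul k k = k1 := by decide +kernel
    exact elG_sq T (this k hk)
  have := Nat.le_of_dvd (by norm_num) (orderOf_dvd_of_pow_eq_one h2)
  omega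

/-- Conjugation by an involution of the four-group. -/
theorem V4_le_normalizer (ht : orderOf t = 2) (K : Subgroup G)
    (h1 : ∀ x ∈ K, t * x * t ∈ K) (h2 : ∀ x ∈ K, elG T iS * x * elG T iS ∈ K) :
    V4 T ≤ Subgroup.normalizer (K : Set G) := by
  have hn : ∀ a : G, a * a = 1 → (∀ x ∈ K, a * x * a ∈ K) → a ∈ Subgroup.normalizer (K : Set G) := by
    intro a ha h
    have hi : a⁻¹ = a := inv_eq_of_mul_eq_one_right ha
    refine Subgroup.mem_normalizer_iff.mpr fun x => ?_
    rw [hi]
    refine ⟨h x, fun hx => ?_⟩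
    have := h _ hx
    rwa [show a * (a * x * a) * a = a * a * x * (a * a) by group, ha, one_mul, mul_one] at this
  intro a ha
  have ht' := hn t (Involution.mul_self ht) h1
  have hs' := hn _ (elG_sq T klein_data.1) h2
  rcases mem_V4 T ht ha with rfl | rfl | rfl | rfl
  · exact one_mem _
  · exact ht'
  · exact hs'
  · rw [← base_facts.2.2.2.1, elG_mul, elG_kz T ht]; exact mul_mem hs' ht'

/-- A subgroup of odd order is generated by its traces on the three centralizers. -/
theorem le_of_traces (ht : orderOf t = 2) {K W : Subgroup G} (hodd : Odd (Nat.card K))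
    (hK : V4 T ≤ Subgroup.normalizer (K : Set G))
    (h1 : ∀ x ∈ K, x * t = t * x → x ∈ W)
    (h2 : ∀ x ∈ K, x * elG T iS = elG T iS * x → x ∈ W)
    (h3 : ∀ x ∈ K, x * elG T iU = elG T iU * x → x ∈ W) : K ≤ W := by
  have := V4_comm T
  refine Coprime.le_of_noncyclic (V4_not_cyclic T) hK ?_ fun a ha ha1 x hx => ?_
  · rw [card_V4]; exact Nat.Coprime.pow_left 2 (Nat.coprime_two_left.mpr hodd)
  · have hxa := Subgroup.mem_centralizer_singleton_iff.mp hx.2
    rcases mem_V4 T ht ha with rfl | rfl | rfl | rfl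
    · exact absurd rfl ha1
    · exact h1 x hx.1 hxa
    · exact h2 x hx.1 hxa
    · exact h3 x hx.1 hxa

/-- Elements of odd order commuting with `iX` and `t`. -/
theorem odd_cent_k (ht : orderOf t = 2) {x : G} (hxt : x * t = t * x)
    (hxk : x * elG T iX = elG T iX * x) (hx : Odd (orderOf x)) :
    x = 1 ∨ x = elG T iX ∨ x = elG T iX * elG T iX := by
  obtain ⟨e, rfl⟩ := elG_surj T hxt
  rw [← elG_mul, ← elG_mul] at hxk
  have hxk' := elG_injective T hxk
  have h6 : elG T e ^ 6 = 1 := by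
    have h := congrArg (elG T) (cent_gcd e hxk')
    rw [elG_mul, elG_mul, elG_mul, elG_k1] at h
    simpa [pow_succ, mul_assoc] using h
  have h3 : elG T e ^ 3 = 1 := orderOf_dvd_iff_pow_eq_one.mp
    ((Nat.coprime_two_right.mpr hx).dvd_of_dvd_mul_left (n := 3)
      (show orderOf (elG T e) ∣ 2 * 3 from orderOf_dvd_of_pow_eq_one h6))
  have he3 : GL23Cent.mul e (GL23Cent.mul e e) = k1 := elG_injective T (by
    rw [elG_mul, elG_mul, elG_k1, ← h3, pow_succ', sq])
  have key : ∀ e, GL23Cent.mul e iX = GL23Cent.mul iX e → GL23Cent.mul e (GL23Cent.mul e e) = k1 →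
      e = k1 ∨ e = iX ∨ e = GL23Cent.mul iX iX := by decide +kernel
  rcases key e hxk' he3 with rfl | rfl | rfl
  · exact Or.inl (elG_k1 T)
  · exact Or.inr (Or.inl rfl)
  · exact Or.inr (Or.inr (elG_mul T iX iX))

end

end Cfsg.Agent.GL23Ident
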