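/-
A second element of order three commuting with the one in `C(t)`.
-/
import Cfsg.Agent.Lib.GL23Ident.Local

set_option autoImplicit false

namespace Cfsg.Agent.GL23Ident

open Cfsg.Agent.GL23Cent

variable {G : Type*} [Group G] {t : G}

/-- `v` commutes with `k` and `u`, and is inverted by `t`. -/
structure Pair (T : Table ↥(Subgroup.centralizer ({t} : Set G))) (v : G) : Prop where
  cube : v ^ 3 = 1
  ne : v ≠ 1
  kv : v * elG T iX = elG T iX * v
  uv : v * elG T iU = elG T iU * v
  tv : t * v * t = v⁻¹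

variable (T : Table ↥(Subgroup.centralizer ({t} : Set G)))

theorem k_facts (ht : orderOf t = 2) :
    elG T iX ^ 3 = 1 ∧ elG T iX ≠ 1 ∧ elG T iX * t = t * elG T iX ∧
    elG T iS * elG T iX * elG T iS = (elG T iX)⁻¹ ∧ elG T iU * elG T iX * elG T iU = (elG T iX)⁻¹ ∧
    elG T iS * elG T iS = 1 ∧ elG T iU * elG T iU = 1 ∧ elG T iS * t = elG T iU ∧ elG T iU * t = elG T iS ∧
    elG T iX * elG T iX = (elG T iX)⁻¹ := by
  obtain ⟨-, -, -, hSz, -, -, hSX, hX1, hX3, -, -⟩ := base_facts
  obtain ⟨hS, hU, -, hUz, -, -, hUX, hXi, -, -⟩ := klein_data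
  refine ⟨?_, elG_ne_one T hX1, elG_comm T _, ?_, ?_, elG_sq T hS, elG_sq T hU, ?_, ?_, ?_⟩
  · rw [pow_succ', sq, ← elG_mul, ← elG_mul, hX3, elG_k1]
  · rw [← elG_mul, ← elG_mul, hSX, elG_inv]
  · rw [← elG_mul, ← elG_mul, hUX, elG_inv]
  · rw [← hSz, elG_mul, elG_kz T ht]
  · rw [← hUz, elG_mul, elG_kz T ht]
  · rw [← elG_mul, ← hXi, elG_inv]

theorem zpowers_cases {g x : G} (hg : g ^ 3 = 1) (hx : x ∈ Subgroup.zpowers g) :
    x = 1 ∨ x = g ∨ x = g⁻¹ := by
  obtain ⟨n, rfl⟩ := Subgroup.mem_zpowers_iff.mp hx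
  have h : g ^ n = g ^ (n % 3) := by
    conv_lhs => rw [← Int.emod_add_mul_ediv n 3]
    rw [zpow_add, zpow_mul, show (3 : ℤ) = ((3 : ℕ) : ℤ) from rfl, zpow_natCast, hg, one_zpow, mul_one]
  rw [h]
  have : n % 3 = 0 ∨ n % 3 = 1 ∨ n % 3 = 2 := by omega
  rcases this with e | e | e <;> rw [e]
  · exact Or.inl (zpow_zero g)
  · exact Or.inr (Or.inl (zpow_one g))
  · refine Or.inr (Or.inr (eq_inv_of_mul_eq_one_left ?_))
    rw [show (2 : ℤ) = ((2 : ℕ) : ℤ) from rfl, zpow_natCast, ← pow_succ, hg]

theorem mem_zpowers_k {x : G} (ht : orderOf t = 2) (hxt : x * t = t * x)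
    (hxk : x * elG T iX = elG T iX * x) (hx : Odd (orderOf x)) [Finite G] :
    x ∈ Subgroup.zpowers (elG T iX) := by
  rcases odd_cent_k T ht hxt hxk hx with rfl | rfl | rfl
  · exact one_mem _
  · exact Subgroup.mem_zpowers _
  · exact mul_mem (Subgroup.mem_zpowers _) (Subgroup.mem_zpowers _)

theorem odd_of_mem [Finite G] {K : Subgroup G} {x : G} (hK : Odd (Nat.card K)) (hx : x ∈ K) :
    Odd (orderOf x) :=
  hK.of_dvd_nat (Subgroup.orderOf_mk x hx ▸ orderOf_dvd_natCard (⟨x, hx⟩ : K))

/-- Membership transported by a conjugation that fixes `k` up to inversion. -/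
theorem conj_cent {a k x : G} (ha : a * a = 1) (hak : a * k * a = k ∨ a * k * a = k⁻¹)
    (hx : x * k = k * x) : a * x * a * k = k * (a * x * a) := by
  have hi : a⁻¹ = a := inv_eq_of_mul_eq_one_right ha
  have hc : Commute x (a * k * a) := by
    rcases hak with h | h <;> rw [h]
    · exact hx
    · exact Commute.inv_right hx
  calc a * x * a * k = a * (x * (a * k * a)) * a := by
        simp only [mul_assoc, ha, mul_one]
    _ = a * ((a * k * a) * x) * a := by rw [hc.eq]
    _ = _ := by simp only [← mul_assoc, ha, one_mul]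

variable [Finite G]

/-- The centralizer of `k` has a subgroup of index two of odd order containing its elements of odd order. -/
theorem exists_oddCent (hH : Hyp t) :
    ∃ K : Subgroup G, Odd (Nat.card K) ∧ V4 T ≤ Subgroup.normalizer (K : Set G) ∧
      (∀ x ∈ K, x * elG T iX = elG T iX * x) ∧
      (∀ x, x * elG T iX = elG T iX * x → Odd (orderOf x) → x ∈ K) ∧
      Nat.card ↥(Subgroup.centralizer ({elG T iX} : Set G)) = 2 * Nat.card K := by
  have : Fact (Nat.Prime 2) := ⟨Nat.prime_two⟩
  obtain ⟨-, -, hkt, hsk, huk, hss, -⟩ := k_facts T hH.ord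
  set C := Subgroup.centralizer ({elG T iX} : Set G) with hC
  have hmem : ∀ x, x ∈ C ↔ x * elG T iX = elG T iX * x := fun x => Subgroup.mem_centralizer_singleton_iff
  let tC : C := ⟨t, (hmem t).mpr hkt.symm⟩
  have htC : orderOf tC = 2 := (Subgroup.orderOf_mk t _).trans hH.ord
  obtain ⟨S, hS⟩ := (IsPGroup.of_card (n := 1)
    (by rw [Nat.card_zpowers, htC, pow_one]) : IsPGroup 2 (Subgroup.zpowers tC)).exists_le_sylow
  have hSeq : (S : Subgroup C) = Subgroup.zpowers tC := by
    by_contra hne
    haveI := S.isPGroup'.isNilpotent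
    have hlt := Group.normalizerCondition_of_isNilpotent ((Subgroup.zpowers tC).subgroupOf S) (by
      rw [lt_top_iff_ne_top, Ne, Subgroup.subgroupOf_eq_top]
      exact fun h => hne (le_antisymm h hS))
    obtain ⟨n, hn, hnS⟩ := SetLike.exists_of_lt hlt
    apply hnS
    rw [Subgroup.mem_subgroupOf]
    have h1 := (Subgroup.mem_normalizer_iff.1 hn ⟨tC, hS (Subgroup.mem_zpowers _)⟩).1
      (Subgroup.mem_subgroupOf.2 (Subgroup.mem_zpowers _))
    rw [Subgroup.mem_subgroupOf, Subgroup.mem_zpowers_iff] at h1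
    obtain ⟨m, hm⟩ := h1
    have hcases : ((n : C) * tC * (n : C)⁻¹ : C) = 1 ∨ ((n : C) * tC * (n : C)⁻¹ : C) = tC := by
      have hm' : tC ^ m = (n : C) * tC * (n : C)⁻¹ := by simpa using hm
      rw [← hm', ← Int.emod_add_mul_ediv m 2, zpow_add, zpow_mul, show (2 : ℤ) = ((2 : ℕ) : ℤ) from rfl,
        zpow_natCast, ← htC, pow_orderOf_eq_one, one_zpow, mul_one, htC]
      have : m % 2 = 0 ∨ m % 2 = 1 := by omega
      rcases this with e | e
      · exact Or.inl (by simp [e])
      · exact Or.inr (by simp [e])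
    have hnt : ((n : C) : G) * t = t * ((n : C) : G) := by
      rcases hcases with e | e
      · exfalso
        have : tC = 1 := by
          calc tC = (n : C)⁻¹ * ((n : C) * tC * (n : C)⁻¹) * n := by group
            _ = 1 := by rw [e]; group
        rw [this, orderOf_one] at htC; omega
      · exact congrArg Subtype.val (mul_inv_eq_iff_eq_mul.1 e)
    obtain ⟨e, he⟩ := elG_surj T hnt
    have hxk : GL23Cent.mul e iX = GL23Cent.mul iX e := elG_injective T (by
      rw [elG_mul, elG_mul, he]; exact (hmem _).1 (n : C).2)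
    have h6 : ((n : C) : G) ^ 6 = 1 := by
      have h := congrArg (elG T) (cent_gcd e hxk)
      rw [elG_mul, elG_mul, elG_mul, elG_k1, he] at h
      simpa [pow_succ, mul_assoc] using h
    have hn6 : ((n : C)) ^ 6 = 1 := Subtype.ext (by simpa using h6)
    have hn2 : (n : C) ^ 2 = 1 := by
      obtain ⟨j, hj⟩ := S.isPGroup' n
      have hj' : (n : C) ^ 2 ^ j = 1 := by simpa using congrArg Subtype.val hj
      have hd := Nat.dvd_gcd (orderOf_dvd_of_pow_eq_one hn6) (orderOf_dvd_of_pow_eq_one hj')
      obtain ⟨i, -, hi⟩ := (Nat.dvd_prime_pow Nat.prime_two).1 (orderOf_dvd_of_pow_eq_one hj')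
      refine orderOf_dvd_iff_pow_eq_one.1 ?_
      have h6' := orderOf_dvd_of_pow_eq_one hn6
      rw [hi] at h6' ⊢
      rcases i with _ | _ | i
      · norm_num
      · norm_num
      · exfalso
        have := Nat.le_of_dvd (by norm_num) h6'
        have h4 : 4 ∣ 2 ^ (i + 2) := ⟨2 ^ i, by ring⟩
        have := h4.trans h6'
        norm_num at this
    have hee : GL23Cent.mul e e = k1 := elG_injective T (by
      rw [elG_mul, he, elG_k1, ← sq]; exact congrArg Subtype.val hn2)
    have key : ∀ e, GL23Cent.mul e iX = GL23Cent.mul iX e → GL23Cent.mul e e = k1 → e = k1 ∨ e = kz := by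
      decide +kernel
    rcases key e hxk hee with rfl | rfl
    · rw [elG_k1] at he
      rw [show (n : C) = 1 from Subtype.ext he.symm]; exact one_mem _
    · rw [elG_kz T hH.ord] at he
      rw [show (n : C) = tC from Subtype.ext he.symm]; exact Subgroup.mem_zpowers _
  have hS2 : Nat.card (S : Subgroup C) = 2 := by rw [hSeq, Nat.card_zpowers, htC]
  have heven : Even (Nat.card C) := even_iff_two_dvd.2 (htC ▸ orderOf_dvd_natCard tC)
  haveI : IsCyclic (S : Subgroup C) := isCyclic_of_prime_card hS2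
  obtain ⟨H, hH2⟩ := Involution.exists_index_two heven S inferInstance
  have hHodd : Odd (Nat.card H) := by
    rw [Nat.odd_iff]
    by_contra h
    have h4 : 2 ^ 2 ∣ Nat.card C := by
      rw [← H.card_mul_index, hH2, sq]; exact Nat.mul_dvd_mul_right (Nat.dvd_of_mod_eq_zero (by omega)) 2
    have := (Nat.prime_two.pow_dvd_iff_le_factorization Nat.card_pos.ne').1 h4
    have hm := S.card_eq_multiplicity
    rw [hS2] at hm
    have : (Nat.card C).factorization 2 = 1 :=
      Nat.pow_right_injective le_rfl (hm.symm.trans (pow_one 2).symm)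
    omega
  have : H.Normal := Subgroup.normal_of_index_eq_two hH2
  set K := H.map C.subtype with hK
  have hKcard : Nat.card K = Nat.card H := Subgroup.card_map_of_injective C.subtype_injective
  have hKle : ∀ x ∈ K, x * elG T iX = elG T iX * x := by
    rintro _ ⟨y, -, rfl⟩; exact (hmem _).1 y.2
  have hodd : ∀ x, x * elG T iX = elG T iX * x → Odd (orderOf x) → x ∈ K := by
    intro x hx hox
    obtain ⟨m, hm⟩ := hox
    set y : C := ⟨x, (hmem x).2 hx⟩
    refine ⟨y, ?_, rfl⟩
    have h1 : y ^ (2 * (m + 1)) ∈ H := by rw [pow_mul]; exact pow_mem (Subgroup.sq_mem_of_index_two hH2 y) _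
    have h2 : y ^ (2 * m + 1) = 1 := by
      rw [← hm, show orderOf x = orderOf y from (Subgroup.orderOf_mk x _).symm, pow_orderOf_eq_one]
    rwa [show 2 * (m + 1) = 2 * m + 1 + 1 by ring, pow_succ, h2, one_mul] at h1
  have hKodd : Odd (Nat.card K) := hKcard ▸ hHodd
  refine ⟨K, hKodd, V4_le_normalizer T hH.ord K (fun x hx => ?_) (fun x hx => ?_), hKle, hodd, ?_⟩
  · refine hodd _ (conj_cent (Involution.mul_self hH.ord) (Or.inl ?_) (hKle x hx)) ?_
    · rw [← hkt, mul_assoc, Involution.mul_self hH.ord, mul_one]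
    · have := Involution.orderOf_conj t x
      rw [Involution.inv_eq hH.ord] at this
      rw [this]; exact odd_of_mem hKodd hx
  · refine hodd _ (conj_cent hss (Or.inr hsk) (hKle x hx)) ?_
    have := Involution.orderOf_conj (elG T iS) x
    rw [inv_eq_of_mul_eq_one_right hss] at this
    rw [this]; exact odd_of_mem hKodd hx
  · rw [← H.card_mul_index, hH2, hKcard, mul_comm]

include T in
/-- The element `v` exists, after a twist of the table if necessary. -/
theorem exists_pair (hH : Hyp t) :
    ∃ (T' : Table ↥(Subgroup.centralizer ({t} : Set G))) (v : G), Pair T' v := by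
  have : Fact (Nat.Prime 3) := ⟨Nat.prime_three⟩
  obtain ⟨hk3, hk1, hkt, hsk, huk, hss, huu, hst, hut, -⟩ := k_facts T hH.ord
  set k := elG T iX with hkdef
  obtain ⟨K, hKodd, hKV, hKc, hKmem, -⟩ := exists_oddCent T hH
  have hkord : orderOf k = 3 := orderOf_eq_prime hk3 hk1
  have h9 : 3 ^ 2 ∣ Nat.card G := by rcases hH.card with h | h <;> rw [h] <;> norm_num
  obtain ⟨P, hP⟩ := (IsPGroup.of_card (n := 1)
    (by rw [Nat.card_zpowers, hkord, pow_one]) : IsPGroup 3 (Subgroup.zpowers k)).exists_le_sylow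
  have hPcard : 9 ≤ Nat.card (P : Subgroup G) := by
    rw [P.card_eq_multiplicity]
    have h := Nat.pow_le_pow_right (show 3 > 0 by norm_num)
      ((Nat.prime_three.pow_dvd_iff_le_factorization Nat.card_pos.ne').1 h9)
    omega
  have hlt : (Subgroup.zpowers k).subgroupOf P < ⊤ := by
    rw [lt_top_iff_ne_top, Ne, Subgroup.subgroupOf_eq_top]
    intro h
    have := Subgroup.card_le_of_le h
    rw [Nat.card_zpowers, hkord] at this
    omega
  haveI := P.isPGroup'.isNilpotent
  obtain ⟨n, hn, hnk⟩ := SetLike.exists_of_lt (Group.normalizerCondition_of_isNilpotent _ hlt)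
  have hnz : (n : G) ∉ Subgroup.zpowers k := fun h => hnk (Subgroup.mem_subgroupOf.2 h)
  have hnodd : Odd (orderOf (n : G)) := by
    obtain ⟨j, hj⟩ := P.isPGroup' n
    have hj' : (n : G) ^ 3 ^ j = 1 := by simpa using congrArg Subtype.val hj
    exact (Odd.pow (by decide : Odd 3)).of_dvd_nat (orderOf_dvd_of_pow_eq_one hj')
  have hnk' : (n : G) * k = k * n := by
    have h1 := (Subgroup.mem_normalizer_iff.1 hn ⟨k, hP (Subgroup.mem_zpowers k)⟩).1
      (Subgroup.mem_subgroupOf.2 (Subgroup.mem_zpowers k))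
    rcases zpowers_cases hk3 (Subgroup.mem_subgroupOf.1 h1) with e | e | e
    · exfalso
      apply hk1
      have e' : (n : G) * k * (n : G)⁻¹ = 1 := by simpa using e
      simpa using e'
    · have e' : (n : G) * k * (n : G)⁻¹ = k := by simpa using e
      exact mul_inv_eq_iff_eq_mul.1 e'
    · exfalso
      have e' : (n : G) * k * (n : G)⁻¹ = k⁻¹ := by simpa using e
      have hpow : ∀ m : ℕ, Even m → (n : G) ^ m * k * ((n : G) ^ m)⁻¹ = k := by
        rintro m ⟨i, rfl⟩
        induction i with
        | zero => simp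
        | succ i ih =>
          rw [show i + 1 + (i + 1) = i + i + 2 by ring, pow_add]
          calc _ = (n : G) ^ (i + i) * ((n : G) * ((n : G) * k * (n : G)⁻¹) * (n : G)⁻¹) * ((n : G) ^ (i + i))⁻¹ := by
                rw [sq]; group
            _ = k := by rw [e', ← conj_inv, e', inv_inv, ih]
      obtain ⟨m, hm⟩ := hnodd
      have := hpow (2 * m) (even_two_mul m)
      have hnm : (n : G) ^ (2 * m) = (n : G)⁻¹ := eq_inv_of_mul_eq_one_left (by
        rw [← pow_succ, ← hm, pow_orderOf_eq_one])
      rw [hnm] at this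
      have hkk : k = k⁻¹ := by
        calc k = (n : G) * ((n : G)⁻¹ * k * ((n : G)⁻¹)⁻¹) * (n : G)⁻¹ := by group
          _ = k⁻¹ := by rw [this, e']
      have hk2 : k * k = 1 := mul_eq_one_iff_eq_inv.2 hkk
      apply hk1
      calc k = k ^ 3 * (k * k)⁻¹ := by group
        _ = 1 := by rw [hk3, hk2, inv_one, mul_one]
  have hnK : (n : G) ∈ K := hKmem _ hnk' hnodd
  by_cases hex : ∃ x ∈ K, x ∉ Subgroup.zpowers k ∧
      (x * elG T iS = elG T iS * x ∨ x * elG T iU = elG T iU * x)
  · obtain ⟨x, hx, hxk, hx'⟩ := hex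
    have hxodd := odd_of_mem hKodd hx
    have hx1 : x ≠ 1 := fun e => hxk (e ▸ one_mem _)
    have key : ∀ (T' : Table ↥(Subgroup.centralizer ({t} : Set G))), elG T' iX = k →
        x * elG T' iU = elG T' iU * x → ∃ v, Pair T' v := by
      intro T' hk' hxu
      obtain ⟨-, -, -, -, huk', -, huu', -, -, -⟩ := k_facts T' hH.ord
      rw [hk'] at huk'
      have hru : orderOf (elG T' iU) = 2 := orderOf_refl T' base_facts.2.1
      have hx3 := pow_three_of_odd T hH hru hxu hxodd
      have htu := elG_comm T' iU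
      have ht2 := Involution.mul_self hH.ord
      have hxk' := hKc x hx
      have hy : t * x * t * elG T' iU = elG T' iU * (t * x * t) := by
        calc t * x * t * elG T' iU = t * (x * elG T' iU) * t := by
              rw [mul_assoc _ t, ← htu, ← mul_assoc, mul_assoc t x]
          _ = t * (elG T' iU * x) * t := by rw [hxu]
          _ = _ := by rw [← mul_assoc t, ← htu]; simp only [mul_assoc]
      have htxk := conj_cent ht2 (Or.inl (by rw [← hkt, mul_assoc, ht2, mul_one])) hxk'
      have hcube : (t * x * t) ^ 3 = 1 := by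
        have := conj_pow (i := 3) (a := t) (b := x)
        rw [Involution.inv_eq hH.ord] at this
        rw [this, hx3, mul_one, ht2]
      obtain ⟨c, hc⟩ := isConj_iff.mp (hH.conj _ hru)
      -- `x` and `t x t` commute
      have hcomm : t * x * t * x = x * (t * x * t) := by
        refine three_comm T hH hru hy hxu hcube hx3 htxk hxk' fun h => ?_
        have hne : GL23Cent.mul iX iU ≠ GL23Cent.mul iU iX := by decide +kernel
        refine hne (elG_injective T' ?_)
        rw [elG_mul, elG_mul, hk']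
        exact h
      refine ⟨x, hx3, hx1, by rw [hk']; exact hxk', hxu, ?_⟩
      rcases three_cent T hH hru hy hxu hcomm hcube hx3 hx1 with e | e | e
      · exfalso; apply hx1
        calc x = t * (t * x * t) * t := by simp only [mul_assoc, ← mul_assoc t t, ht2, one_mul, mul_one]
          _ = 1 := by rw [e, mul_one, ht2]
      · exfalso; apply hxk
        refine mem_zpowers_k T hH.ord ?_ hxk' hxodd
        calc x * t = t * x * t * t := by rw [e]
          _ = t * x := by rw [mul_assoc _ t t, ht2, mul_one]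
      · rw [e]; exact eq_inv_of_mul_eq_one_left (by rw [← hx3, pow_succ, sq])
    rcases hx' with hxs | hxu
    · let T' : Table ↥(Subgroup.centralizer ({t} : Set G)) :=
        { φ := T.φ.trans ⟨kap, kap, kap_data.1, kap_data.1⟩
          φ_mul := fun a b => by simp [T.φ_mul, kap_data.2.1] }
      have e1 : ∀ j, elG T' j = elG T (kap j) := fun j => rfl
      obtain ⟨v, hv⟩ := key T' (by rw [e1, kap_data.2.2.1]) (by
        rw [e1]
        have : kap iU = iS := by rw [← kap_data.2.2.2.2, kap_data.1]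
        rw [this]; exact hxs)
      exact ⟨T', v, hv⟩
    · obtain ⟨v, hv⟩ := key T rfl hxu
      exact ⟨T, v, hv⟩
  · exfalso
    push Not at hex
    have hle : K ≤ Subgroup.zpowers k := le_of_traces T hH.ord hKodd hKV
      (fun x hx hxt => mem_zpowers_k T hH.ord hxt (hKc x hx) (odd_of_mem hKodd hx))
      (fun x hx hxs => by_contra fun h => (hex x hx h).1 hxs)
      (fun x hx hxu => by_contra fun h => (hex x hx h).2 hxu)
    exact hnz (hle hnK)

end Cfsg.Agent.GL23Ident
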