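/-
Groups with four elements satisfying the relations of an involution centralizer `GL(2,3)`, its fusion and the
normalised subgroup of order nine.
-/
import Cfsg.Agent.Lib.GL23Ident.CertMatOK
import Cfsg.Agent.Lib.GL23Ident.CertLinOK
import Cfsg.Agent.Lib.GL23Ident.Words
import Mathlib.GroupTheory.QuotientGroup.Basic
import Mathlib.Algebra.Group.Subgroup.Pointwise
import Mathlib.GroupTheory.Sylow
import Mathlib.Tactic.IntervalCases

set_option autoImplicit false

namespace Cfsg.Agent.GL23Ident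

open Pointwise

/-- Values of the letters. -/
def letters {K : Type*} [Group K] (a s x w : K) : ℕ → K
  | 0 => a | 1 => s | 2 => x | 3 => w
  | 4 => a⁻¹ | 5 => s⁻¹ | 6 => x⁻¹ | 7 => w⁻¹
  | _ => 1

/-- The relations, with parameter `j`. -/
structure Sys (K : Type*) [Group K] (j : ℕ) where
  a : K
  s : K
  x : K
  w : K
  gl : ∀ r ∈ glWords, Cert.ev (letters a s x w) r = 1
  ww : w * w = 1
  wt : w * a ^ 4 * w = s
  wst : w * (s * a ^ 4) * w = s * a ^ 4
  dw : (a * s * a⁻¹ * w) ^ 3 = 1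
  sk : s * (w * x * w) * s = w * x * w
  tk : a ^ 4 * (w * x * w) * a ^ 4 = (w * x * w)⁻¹
  comm : Commute (w * x * w) (a * (w * x * w) * a⁻¹)
  act : a * (a * (w * x * w) * a⁻¹) * a⁻¹ = w * x * w * (a * (w * x * w) * a⁻¹) ^ j

namespace Sys

variable {K : Type*} [Group K] {j : ℕ} (S : Sys K j)

/-- Values of the letters. -/
def val : ℕ → K := letters S.a S.s S.x S.w

theorem val_linv : ∀ l < 8, S.val (linv l) = (S.val l)⁻¹ := by
  intro l hl
  interval_cases l <;> simp [val, letters, linv]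

/-- The subgroup generated by the four elements. -/
def gen : Subgroup K := Subgroup.closure (S.val '' {l | l < 4})

theorem mem_gen {l : ℕ} (hl : l < 4) : S.val l ∈ S.gen := Subgroup.subset_closure ⟨l, hl, rfl⟩

/-- The element of order three inverted by the central involution. -/
def xp : K := S.w * S.x * S.w

/-- Its image under the element of order eight. -/
def yp : K := S.a * S.xp * S.a⁻¹

theorem a_pow_eight : S.a ^ 8 = 1 := by
  have := S.gl [0, 0, 0, 0, 0, 0, 0, 0] (by decide)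
  simp [Cert.ev, letters] at this
  rw [← this]
  simp only [pow_succ, pow_zero, one_mul, mul_assoc]

theorem s_sq : S.s * S.s = 1 := by
  simpa [Cert.ev, letters] using S.gl [1, 1] (by decide)

theorem x_cube : S.x * S.x * S.x = 1 := by
  simpa [Cert.ev, letters, mul_assoc] using S.gl [2, 2, 2] (by decide)

theorem s_a : S.s * S.a * S.s = S.a ^ 3 := by
  have := S.gl [1, 0, 1, 4, 4, 4] (by decide)
  simp [Cert.ev, letters] at this
  calc S.s * S.a * S.s
      = S.s * (S.a * (S.s * (S.a⁻¹ * (S.a⁻¹ * S.a⁻¹)))) * S.a ^ 3 := by group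
    _ = S.a ^ 3 := by rw [this, one_mul]

theorem xp_cube : S.xp ^ 3 = 1 := by
  have e : S.w⁻¹ = S.w := inv_eq_of_mul_eq_one_right S.ww
  have h : S.xp = S.w * S.x * S.w⁻¹ := by rw [xp, e]
  rw [h, conj_pow, pow_succ, sq, S.x_cube, mul_one, mul_inv_cancel]

theorem xp_mul : S.xp * S.xp = S.xp⁻¹ :=
  eq_inv_of_mul_eq_one_left (by rw [← S.xp_cube, pow_succ, sq])

theorem s_xp : S.s * S.xp * S.s = S.xp := S.sk

theorem a4_sq : S.a ^ 4 * S.a ^ 4 = 1 := by rw [← pow_add]; exact S.a_pow_eight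

theorem yp_cube : S.yp ^ 3 = 1 := by rw [yp, conj_pow, S.xp_cube, mul_one, mul_inv_cancel]

end Sys

section bound

variable {K : Type*} [Group K] [Finite K]

theorem card_sup_le {B A : Subgroup K} (h : B ≤ Subgroup.normalizer (A : Set K)) :
    Nat.card ↥(B ⊔ A) ≤ Nat.card B * Nat.card A := by
  have e : ((B ⊔ A : Subgroup K) : Set K) = (B : Set K) * (A : Set K) :=
    Subgroup.coe_mul_of_left_le_normalizer_right B A h
  rw [← Nat.card_prod]
  refine Nat.card_le_card_of_surjective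
    (fun p : B × A => (⟨p.1 * p.2, Subgroup.mul_mem _ ((le_sup_left : B ≤ B ⊔ A) p.1.2)
      ((le_sup_right : A ≤ B ⊔ A) p.2.2)⟩ : ↥(B ⊔ A))) ?_
  rintro ⟨z, hz⟩
  rw [← SetLike.mem_coe, e] at hz
  obtain ⟨b, hb, a, ha, rfl⟩ := hz
  exact ⟨(⟨b, hb⟩, ⟨a, ha⟩), rfl⟩

theorem mem_normalizer_closure {S : Set K} {g : K}
    (h : ∀ z ∈ S, g * z * g⁻¹ ∈ Subgroup.closure S) :
    g ∈ Subgroup.normalizer (Subgroup.closure S : Set K) := by
  have hle : (Subgroup.closure S).map (MulAut.conj g).toMonoidHom ≤ Subgroup.closure S := by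
    rw [MonoidHom.map_closure, Subgroup.closure_le]
    rintro _ ⟨z, hz, rfl⟩
    exact h z hz
  have heq := Subgroup.eq_of_le_of_card_ge hle
    (Subgroup.card_map_of_injective (MulAut.conj g).injective).ge
  refine Subgroup.mem_normalizer_iff.mpr fun z => ⟨fun hz => hle ⟨z, hz, rfl⟩, fun hz => ?_⟩
  rw [← heq] at hz
  obtain ⟨z', hz', e⟩ := hz
  have : z' = z := (MulAut.conj g).injective e
  exact this ▸ hz'

theorem card_zpowers_le {g : K} {n : ℕ} (hn : 0 < n) (h : g ^ n = 1) :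
    Nat.card (Subgroup.zpowers g) ≤ n := by
  rw [Nat.card_zpowers]; exact orderOf_le_of_pow_eq_one hn h

namespace Sys

variable {j : ℕ} (S : Sys K j)

/-- The subgroup of index `55` or `39`. -/
def base : Subgroup K :=
  (Subgroup.zpowers S.s ⊔ Subgroup.zpowers S.a) ⊔ Subgroup.closure {S.xp, S.yp}

theorem card_base : Nat.card S.base ≤ 144 := by
  have hA : Nat.card (Subgroup.closure {S.xp, S.yp}) ≤ 9 := by
    rw [show Subgroup.closure {S.xp, S.yp} = Subgroup.zpowers S.xp ⊔ Subgroup.zpowers S.yp by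
      rw [Subgroup.zpowers_eq_closure, Subgroup.zpowers_eq_closure, ← Subgroup.closure_union]; rfl]
    refine (card_sup_le ?_).trans (Nat.mul_le_mul (card_zpowers_le (by norm_num) S.xp_cube)
      (card_zpowers_le (by norm_num) S.yp_cube))
    rw [Subgroup.zpowers_le]
    rw [Subgroup.zpowers_eq_closure]
    refine mem_normalizer_closure fun z hz => ?_
    rw [Set.mem_singleton_iff] at hz
    subst hz
    rw [show S.xp * S.yp = S.yp * S.xp from S.comm, mul_inv_cancel_right]
    exact Subgroup.subset_closure (Set.mem_singleton _)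
  have hB : Nat.card ↥(Subgroup.zpowers S.s ⊔ Subgroup.zpowers S.a) ≤ 16 := by
    refine (card_sup_le ?_).trans (Nat.mul_le_mul
      (card_zpowers_le (n := 2) (by norm_num) (by rw [sq]; exact S.s_sq))
      (card_zpowers_le (by norm_num) S.a_pow_eight))
    rw [Subgroup.zpowers_le, Subgroup.zpowers_eq_closure]
    refine mem_normalizer_closure fun z hz => ?_
    rw [Set.mem_singleton_iff] at hz
    subst hz
    rw [inv_eq_of_mul_eq_one_right S.s_sq, S.s_a]
    exact Subgroup.pow_mem (Subgroup.closure {S.a}) (Subgroup.subset_closure (Set.mem_singleton S.a)) 3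
  refine (card_sup_le ?_).trans (Nat.mul_le_mul hB hA)
  have hx : S.xp ∈ Subgroup.closure {S.xp, S.yp} := Subgroup.subset_closure (by simp)
  have hy : S.yp ∈ Subgroup.closure {S.xp, S.yp} := Subgroup.subset_closure (by simp)
  have ha : S.a ∈ Subgroup.normalizer (Subgroup.closure {S.xp, S.yp} : Set K) := by
    refine mem_normalizer_closure fun z hz => ?_
    rcases hz with rfl | rfl
    · exact hy
    · rw [show S.a * S.yp * S.a⁻¹ = S.xp * S.yp ^ j from S.act]
      exact Subgroup.mul_mem _ hx (Subgroup.pow_mem _ hy _)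
  refine sup_le ?_ (Subgroup.zpowers_le.mpr ha)
  rw [Subgroup.zpowers_le]
  refine mem_normalizer_closure fun z hz => ?_
  rcases hz with rfl | rfl
  · rw [inv_eq_of_mul_eq_one_right S.s_sq, S.s_xp]; exact hx
  · have h3 := Subgroup.pow_mem _ ha 3
    rw [inv_eq_of_mul_eq_one_right S.s_sq]
    have e : S.s * S.yp * S.s = S.a ^ 3 * S.xp * (S.a ^ 3)⁻¹ :=
      calc S.s * S.yp * S.s
          = S.s * S.a * (S.s * S.s) * S.xp * (S.s * S.s) * S.a⁻¹ * S.s := by
            rw [S.s_sq, mul_one, mul_one, yp]; group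
        _ = (S.s * S.a * S.s) * (S.s * S.xp * S.s) * (S.s * S.a⁻¹ * S.s) := by group
        _ = S.a ^ 3 * S.xp * (S.a ^ 3)⁻¹ := by
            rw [S.s_a, S.s_xp]
            congr 1
            rw [← S.s_a]
            have := inv_eq_of_mul_eq_one_right S.s_sq
            simp only [mul_inv_rev, this, mul_assoc]
    rw [e]
    exact (Subgroup.mem_normalizer_iff.mp h3 S.xp).mp hx

end Sys

end bound

namespace Sys

variable {K : Type*} [Group K] {j : ℕ} (S : Sys K j)

theorem tk' : S.a ^ 4 * S.xp * S.a ^ 4 = S.xp⁻¹ := S.tk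

theorem ev_tyty : S.a ^ 4 * S.yp * S.a ^ 4 * S.yp = 1 := by
  have e : S.a ^ 4 * S.yp * S.a ^ 4 * S.yp = S.a * (S.a ^ 4 * S.xp * S.a ^ 4 * S.xp) * S.a⁻¹ := by
    rw [yp]; group
  rw [e, S.tk', inv_mul_cancel, mul_one, mul_inv_cancel]

theorem s_a4 : S.s * S.a ^ 4 = S.a ^ 4 * S.s := by
  have e : S.s⁻¹ = S.s := inv_eq_of_mul_eq_one_right S.s_sq
  have h : S.s * S.a ^ 4 * S.s = S.a ^ 4 :=
    calc S.s * S.a ^ 4 * S.s = S.s * S.a ^ 4 * S.s⁻¹ := by rw [e]
      _ = (S.s * S.a * S.s⁻¹) ^ 4 := conj_pow.symm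
      _ = (S.a ^ 3) ^ 4 := by rw [e, S.s_a]
      _ = S.a ^ 8 * S.a ^ 4 := by rw [← pow_mul, ← pow_add]
      _ = S.a ^ 4 := by rw [S.a_pow_eight, one_mul]
  calc S.s * S.a ^ 4 = S.s * S.a ^ 4 * S.s * S.s := by rw [mul_assoc _ S.s S.s, S.s_sq, mul_one]
    _ = S.a ^ 4 * S.s := by rw [h]

theorem extraMat_ok (S : Sys K 1) : ∀ r ∈ extraMat, Cert.ev S.val r = 1 := by
  have ht : S.xp * S.xp * S.xp = 1 := by
    have := S.xp_cube; rwa [pow_succ, sq] at this
  have hact : S.a * S.yp * S.a⁻¹ = S.xp * S.yp := by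
    have h : S.a * S.yp * S.a⁻¹ = S.xp * S.yp ^ 1 := S.act
    rwa [pow_one] at h
  have hc : S.xp * S.yp = S.yp * S.xp := S.comm
  have hsc := S.s_a4
  have ew : S.w⁻¹ = S.w := inv_eq_of_mul_eq_one_right S.ww
  intro r hr
  simp only [extraMat, List.mem_cons, List.not_mem_nil, or_false] at hr
  rcases hr with rfl | rfl | rfl | rfl | rfl | rfl | rfl | rfl | rfl | rfl <;>
    simp only [Cert.ev, val, letters, List.map_cons, List.map_nil, List.prod_cons, List.prod_nil, mul_one]
  · exact S.ww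
  · calc _ = S.w * S.a ^ 4 * S.w * S.s := by simp only [xp, yp, pow_succ, pow_zero, one_mul, mul_one, mul_inv_rev, inv_inv, ew, mul_assoc]
      _ = 1 := by rw [S.wt, S.s_sq]
  · calc _ = S.xp * S.xp * S.xp := by simp only [xp, yp, pow_succ, pow_zero, one_mul, mul_one, mul_inv_rev, inv_inv, ew, mul_assoc]
      _ = 1 := ht
  · calc _ = S.w * (S.s * S.a ^ 4) * S.w * (S.s * S.a ^ 4) := by simp only [xp, yp, pow_succ, pow_zero, one_mul, mul_one, mul_inv_rev, inv_inv, ew, mul_assoc]
      _ = S.s * S.a ^ 4 * (S.s * S.a ^ 4) := by rw [S.wst]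
      _ = 1 := by
        nth_rw 2 [hsc]
        rw [mul_assoc, ← mul_assoc (S.a ^ 4), S.a4_sq, one_mul, S.s_sq]
  · calc _ = S.a ^ 4 * S.xp * S.a ^ 4 * S.xp := by simp only [xp, yp, pow_succ, pow_zero, one_mul, mul_one, mul_inv_rev, inv_inv, ew, mul_assoc]
      _ = 1 := by rw [S.tk', inv_mul_cancel]
  · calc _ = S.a ^ 4 * S.yp * S.a ^ 4 * S.yp := by simp only [xp, yp, pow_succ, pow_zero, one_mul, mul_one, mul_inv_rev, inv_inv, ew, mul_assoc]
      _ = 1 := S.ev_tyty
  · calc _ = S.a * S.yp * S.a⁻¹ * S.yp⁻¹ * S.xp⁻¹ := by simp only [xp, yp, pow_succ, pow_zero, one_mul, mul_one, mul_inv_rev, inv_inv, ew, mul_assoc]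
      _ = 1 := by rw [hact]; group
  · calc _ = S.xp * S.yp * S.xp⁻¹ * S.yp⁻¹ := by simp only [xp, yp, pow_succ, pow_zero, one_mul, mul_one, mul_inv_rev, inv_inv, ew, mul_assoc]
      _ = 1 := by rw [hc]; group
  · calc _ = S.s * S.xp * S.s * S.xp⁻¹ := by simp only [xp, yp, pow_succ, pow_zero, one_mul, mul_one, mul_inv_rev, inv_inv, ew, mul_assoc]
      _ = 1 := by rw [S.s_xp]; group
  · calc _ = (S.a * S.s * S.a⁻¹ * S.w) ^ 3 := by simp only [xp, yp, pow_succ, pow_zero, one_mul, mul_one, mul_inv_rev, inv_inv, ew, mul_assoc]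
      _ = 1 := S.dw

theorem extraLin_ok (S : Sys K 2) : ∀ r ∈ extraLin, Cert.ev S.val r = 1 := by
  have ht : S.xp * S.xp * S.xp = 1 := by
    have := S.xp_cube; rwa [pow_succ, sq] at this
  have hyy : S.yp * S.yp * S.yp = 1 := by
    have := S.yp_cube; rwa [pow_succ, sq] at this
  have hact : S.a * S.yp * S.a⁻¹ = S.xp * (S.yp * S.yp) := by rw [← sq]; exact S.act
  have hc : S.xp * S.yp = S.yp * S.xp := S.comm
  have hsc := S.s_a4
  have ew : S.w⁻¹ = S.w := inv_eq_of_mul_eq_one_right S.ww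
  intro r hr
  simp only [extraLin, List.mem_cons, List.not_mem_nil, or_false] at hr
  rcases hr with rfl | rfl | rfl | rfl | rfl | rfl | rfl | rfl | rfl | rfl | rfl <;>
    simp only [Cert.ev, val, letters, List.map_cons, List.map_nil, List.prod_cons, List.prod_nil, mul_one]
  · exact S.ww
  · calc _ = S.w * S.s * S.w * S.a ^ 4 := by simp only [xp, yp, pow_succ, pow_zero, one_mul, mul_one, mul_inv_rev, inv_inv, ew, mul_assoc]
      _ = S.w * (S.w * S.a ^ 4 * S.w) * S.w * S.a ^ 4 := by rw [S.wt]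
      _ = (S.w * S.w) * S.a ^ 4 * (S.w * S.w) * S.a ^ 4 := by group
      _ = 1 := by rw [S.ww, one_mul, mul_one, S.a4_sq]
  · calc _ = S.xp * S.xp * S.xp := by simp only [xp, yp, pow_succ, pow_zero, one_mul, mul_one, mul_inv_rev, inv_inv, ew, mul_assoc]
      _ = 1 := ht
  · calc _ = S.w * (S.s * S.a ^ 4) * S.w * (S.s * S.a ^ 4) := by simp only [xp, yp, pow_succ, pow_zero, one_mul, mul_one, mul_inv_rev, inv_inv, ew, mul_assoc]
      _ = S.s * S.a ^ 4 * (S.s * S.a ^ 4) := by rw [S.wst]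
      _ = 1 := by
        nth_rw 2 [hsc]
        rw [mul_assoc, ← mul_assoc (S.a ^ 4), S.a4_sq, one_mul, S.s_sq]
  · calc _ = S.s * S.xp * S.s * S.xp⁻¹ := by simp only [xp, yp, pow_succ, pow_zero, one_mul, mul_one, mul_inv_rev, inv_inv, ew, mul_assoc]
      _ = 1 := by rw [S.s_xp]; group
  · calc _ = S.a ^ 4 * S.yp * S.a ^ 4 * S.yp := by simp only [xp, yp, pow_succ, pow_zero, one_mul, mul_one, mul_inv_rev, inv_inv, ew, mul_assoc]
      _ = 1 := S.ev_tyty
  · calc _ = S.a * S.yp * S.a⁻¹ * S.yp * (S.xp * S.xp) := by simp only [xp, yp, pow_succ, pow_zero, one_mul, mul_one, mul_inv_rev, inv_inv, ew, mul_assoc]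
      _ = S.xp * (S.yp * S.yp * S.yp) * (S.xp * S.xp) := by rw [hact]; group
      _ = 1 := by rw [hyy, mul_one, ← mul_assoc, ht]
  · calc _ = (S.a * S.s * S.a⁻¹ * S.w) ^ 3 := by simp only [xp, yp, pow_succ, pow_zero, one_mul, mul_one, mul_inv_rev, inv_inv, ew, mul_assoc]
      _ = 1 := S.dw
  · calc _ = S.a * S.yp * S.a⁻¹ * S.yp⁻¹ * S.yp⁻¹ * S.xp⁻¹ := by simp only [xp, yp, pow_succ, pow_zero, one_mul, mul_one, mul_inv_rev, inv_inv, ew, mul_assoc]
      _ = 1 := by rw [hact]; group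
  · calc _ = S.xp * S.yp * S.xp⁻¹ * S.yp⁻¹ := by simp only [xp, yp, pow_succ, pow_zero, one_mul, mul_one, mul_inv_rev, inv_inv, ew, mul_assoc]
      _ = 1 := by rw [hc]; group
  · calc _ = S.a ^ 4 * S.xp * S.a ^ 4 * S.xp := by simp only [xp, yp, pow_succ, pow_zero, one_mul, mul_one, mul_inv_rev, inv_inv, ew, mul_assoc]
      _ = 1 := by rw [S.tk', inv_mul_cancel]

theorem relsMat_mem : ∀ r ∈ relsMat, r ∈ glWords ∨ r ∈ extraMat := by decide +kernel
theorem relsLin_mem : ∀ r ∈ relsLin, r ∈ glWords ∨ r ∈ extraLin := by decide +kernel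

theorem sub_mem [Finite K] :
    (∀ l < 2, S.val l ∈ S.base) ∧ Cert.ev S.val [3, 2, 3] ∈ S.base := by
  refine ⟨fun l hl => ?_, ?_⟩
  · refine (le_sup_left : _ ≤ S.base) ?_
    interval_cases l
    · exact (le_sup_right : Subgroup.zpowers S.a ≤ _) (Subgroup.mem_zpowers _)
    · exact (le_sup_left : Subgroup.zpowers S.s ≤ _) (Subgroup.mem_zpowers _)
  · refine (le_sup_right : _ ≤ S.base) (Subgroup.subset_closure (Or.inl ?_))
    simp [Cert.ev, val, letters, xp, mul_assoc]

theorem card_gen_mat [Finite K] (S : Sys K 1) : Nat.card S.gen ≤ 7920 := by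
  have h := certMat.card_closure_le (val := S.val) S.base S.val_linv [3, 2, 3] S.sub_mem.1 S.sub_mem.2
    (fun r hr => (relsMat_mem r hr).elim (S.gl r) (S.extraMat_ok r)) certMat_factsOK certMat_finOK
  rw [certMat_length] at h
  exact h.trans (by have := S.card_base; omega)

theorem card_gen_lin [Finite K] (S : Sys K 2) : Nat.card S.gen ≤ 5616 := by
  have h := certLin.card_closure_le (val := S.val) S.base S.val_linv [3, 2, 3] S.sub_mem.1 S.sub_mem.2
    (fun r hr => (relsLin_mem r hr).elim (S.gl r) (S.extraLin_ok r)) certLin_factsOK certLin_finOK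
  rw [certLin_length] at h
  exact h.trans (by have := S.card_base; omega)

/-- Two systems give one in the product. -/
def prod {K' : Type*} [Group K'] (S' : Sys K' j) : Sys (K × K') j where
  a := (S.a, S'.a)
  s := (S.s, S'.s)
  x := (S.x, S'.x)
  w := (S.w, S'.w)
  gl r hr := by
    have e : ∀ l, letters (S.a, S'.a) (S.s, S'.s) (S.x, S'.x) (S.w, S'.w) l =
        (letters S.a S.s S.x S.w l, letters S'.a S'.s S'.x S'.w l) := by
      intro l
      rcases l with _|_|_|_|_|_|_|_|l <;> rfl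
    have h : ∀ r : List ℕ, Cert.ev (letters (S.a, S'.a) (S.s, S'.s) (S.x, S'.x) (S.w, S'.w)) r =
        (Cert.ev (letters S.a S.s S.x S.w) r, Cert.ev (letters S'.a S'.s S'.x S'.w) r) := by
      intro r
      induction r with
      | nil => rfl
      | cons l r ih =>
        simp only [Cert.ev, List.map_cons, List.prod_cons] at ih ⊢
        rw [ih, e, Prod.mk_mul_mk]
    rw [h, S.gl r hr, S'.gl r hr]; rfl
  ww := Prod.ext S.ww S'.ww
  wt := Prod.ext S.wt S'.wt
  wst := Prod.ext S.wst S'.wst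
  dw := Prod.ext S.dw S'.dw
  sk := Prod.ext S.sk S'.sk
  tk := Prod.ext S.tk S'.tk
  comm := Prod.ext S.comm.eq S'.comm.eq
  act := Prod.ext S.act S'.act

/-- A simple group generated by a system of the same size as a model is isomorphic to it. -/
theorem nonempty_mulEquiv {K' : Type*} [Group K'] [Finite K] [Finite K'] [IsSimpleGroup K]
    (S' : Sys K' j) (hgen : S.gen = ⊤) (hne : S'.s ≠ 1)
    (hle : Nat.card (S.prod S').gen ≤ Nat.card K') (hK : Nat.card K' < 2 * Nat.card K) :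
    Nonempty (K ≃* K') ∨ (Nat.card K ≠ Nat.card K' ∧ Nat.card K ∣ Nat.card K') := by
  set P := (S.prod S').gen
  let f : P →* K := (MonoidHom.fst K K').comp P.subtype
  let g : P →* K' := (MonoidHom.snd K K').comp P.subtype
  have hf : Function.Surjective f := by
    rw [← MonoidHom.range_eq_top, eq_top_iff, ← hgen, gen, Subgroup.closure_le]
    rintro _ ⟨l, hl, rfl⟩
    refine ⟨⟨(S.prod S').val l, (S.prod S').mem_gen hl⟩, ?_⟩
    change l < 4 at hl
    interval_cases l <;> rfl
  have hdvd : Nat.card K ∣ Nat.card P := Subgroup.card_dvd_of_surjective f hf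
  have hinj : Function.Injective f := by
    rw [← MonoidHom.ker_eq_bot_iff, ← Subgroup.card_eq_one]
    have h1 := f.ker.card_mul_index
    rw [Subgroup.index_ker, MonoidHom.range_eq_top.mpr hf, Subgroup.card_top] at h1
    by_contra hk
    have : 2 ≤ Nat.card f.ker := by
      have := Nat.card_pos (α := f.ker)
      omega
    have := Nat.mul_le_mul_right (Nat.card K) this
    omega
  let e : P ≃* K := MulEquiv.ofBijective f ⟨hinj, hf⟩
  let h : K →* K' := g.comp e.symm.toMonoidHom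
  have hh : Function.Injective h := by
    rw [← MonoidHom.ker_eq_bot_iff]
    refine (h.normal_ker.eq_bot_or_eq_top).resolve_right fun ht => hne ?_
    let p : P := ⟨(S.prod S').val 1, (S.prod S').mem_gen (by norm_num)⟩
    have hp : e p = S.s := rfl
    have : h S.s = 1 := MonoidHom.mem_ker.mp (ht ▸ Subgroup.mem_top _)
    simp only [h, MonoidHom.comp_apply, MulEquiv.coe_toMonoidHom, ← hp, MulEquiv.symm_apply_apply] at this
    exact this
  by_cases heq : Nat.card K = Nat.card K'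
  · exact Or.inl ⟨MulEquiv.ofBijective h (hh.bijective_of_nat_card_le heq.ge)⟩
  · exact Or.inr ⟨heq, Subgroup.card_dvd_of_injective h hh⟩

end Sys

end Cfsg.Agent.GL23Ident
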