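/-
The subgroup of order nine and its centralizer.
-/
import Cfsg.Agent.Lib.GL23Ident.Pair
import Cfsg.Agent.Lib.GL23Ident.Sys

set_option autoImplicit false

namespace Cfsg.Agent.GL23Ident

open Cfsg.Agent.GL23Cent

variable {G : Type*} [Group G] {t : G}
variable (T : Table ↥(Subgroup.centralizer ({t} : Set G))) {v : G}

/-- The element with given coordinates. -/
def emb (v : G) (c : Fin 3 × Fin 3) : G := elG T iX ^ c.1.val * v ^ c.2.val

theorem pow_fin {g : G} (hg : g ^ 3 = 1) (a b : Fin 3) : g ^ (a + b).val = g ^ a.val * g ^ b.val := by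
  rw [Fin.val_add, ← pow_eq_pow_mod _ hg, pow_add]

theorem sep {r a b : G} (hr : r * r = 1) (ha : r * a * r = a) (hb : r * b * r = b⁻¹) (hb3 : b ^ 3 = 1) (hb1 : b ≠ 1) :
    a ≠ b ∧ a ≠ b⁻¹ ∧ a⁻¹ ≠ b ∧ a⁻¹ ≠ b⁻¹ := by
  have h : b ≠ b⁻¹ := by
    intro h
    apply hb1
    have h2 : b * b = 1 := mul_eq_one_iff_eq_inv.2 h
    calc b = b ^ 3 * (b * b)⁻¹ := by group
      _ = 1 := by rw [hb3, h2, inv_one, mul_one]
  have h1 : a ≠ b := fun e => h (by rw [← hb, ← e, ha])
  have h2 : a ≠ b⁻¹ := fun e => h (by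
    have hi : r * b⁻¹ * r = b := by
      calc r * b⁻¹ * r = (r⁻¹ * b * r⁻¹)⁻¹ := by group
        _ = b := by rw [inv_eq_of_mul_eq_one_right hr, hb, inv_inv]
    calc b = r * b⁻¹ * r := hi.symm
      _ = r * a * r := by rw [e]
      _ = a := ha
      _ = b⁻¹ := e)
  exact ⟨h1, h2, fun e => h2 (by rw [← e, inv_inv]), fun e => h1 (inv_injective e)⟩

variable (hv : Pair T v)
include hv

theorem v_facts (ht : orderOf t = 2) :
    elG T iS * v * elG T iS = v⁻¹ ∧ elG T iU * v * elG T iU = v ∧ v * v = v⁻¹ := by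
  obtain ⟨-, -, -, -, -, -, huu, -, hut, -⟩ := k_facts T ht
  have h2 : elG T iU * v * elG T iU = v := by rw [← hv.uv, mul_assoc, huu, mul_one]
  refine ⟨?_, h2, eq_inv_of_mul_eq_one_left (by rw [← sq, ← pow_succ, hv.cube])⟩
  calc elG T iS * v * elG T iS = t * (elG T iU * v * elG T iU) * t := by
        rw [← hut]
        conv_lhs => arg 1; arg 1; rw [elG_comm]
        group
    _ = v⁻¹ := by rw [h2, hv.tv]

theorem emb_add (ht : orderOf t = 2) (a b : Fin 3 × Fin 3) : emb T v a * emb T v b = emb T v (a + b) := by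
  have hc : Commute (v ^ a.2.val) (elG T iX ^ b.1.val) := Commute.pow_pow hv.kv _ _
  simp only [emb, Prod.fst_add, Prod.snd_add, pow_fin (k_facts T ht).1, pow_fin hv.cube]
  rw [mul_assoc, ← mul_assoc (v ^ a.2.val), hc.eq]
  simp only [mul_assoc]

omit hv in
theorem emb_zero : emb T v (0, 0) = 1 := by simp [emb]

omit hv in
theorem emb_fst : emb T v (1, 0) = elG T iX := by simp [emb]

omit hv in
theorem emb_snd : emb T v (0, 1) = v := by simp [emb]

theorem emb_comm (ht : orderOf t = 2) (a b : Fin 3 × Fin 3) : emb T v a * emb T v b = emb T v b * emb T v a := by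
  rw [emb_add T hv ht, emb_add T hv ht, add_comm]

theorem emb_inv (ht : orderOf t = 2) (a : Fin 3 × Fin 3) : (emb T v a)⁻¹ = emb T v (-a) :=
  inv_eq_of_mul_eq_one_right (by rw [emb_add T hv ht, add_neg_cancel]; exact emb_zero T)

theorem emb_inj (ht : orderOf t = 2) : Function.Injective (emb T v) := by
  intro a b h
  have h0 : emb T v (a + -b) = 1 := by rw [← emb_add T hv ht, ← emb_inv T hv ht, h, mul_inv_cancel]
  suffices ∀ c, emb T v c = 1 → c = 0 from by
    have := this _ h0
    rwa [← sub_eq_add_neg, sub_eq_zero] at this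
  obtain ⟨hk3, hk1, hkt, -⟩ := k_facts T ht
  rintro ⟨i, j⟩ hc
  have hne : ∀ (g : G), g ^ 3 = 1 → g ≠ 1 → ∀ i : Fin 3, g ^ i.val = 1 → i = 0 := by
    intro g hg hg1 i hi
    by_contra h
    haveI : Fact (Nat.Prime 3) := ⟨Nat.prime_three⟩
    have : orderOf g ∣ i.val := orderOf_dvd_of_pow_eq_one hi
    rw [orderOf_eq_prime hg hg1] at this
    rw [Fin.ext_iff] at h
    have := Nat.le_of_dvd (Nat.pos_of_ne_zero (by simpa using h)) this
    omega
  have hj : elG T iX ^ i.val = (v ^ j.val)⁻¹ := eq_inv_of_mul_eq_one_left hc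
  have htv : t * (v ^ j.val)⁻¹ * t = v ^ j.val := by
    have hti : t⁻¹ = t := Involution.inv_eq ht
    have h := conj_pow (i := j.val) (a := t) (b := v)
    rw [hti, hv.tv, inv_pow] at h
    calc t * (v ^ j.val)⁻¹ * t = (t * v ^ j.val * t)⁻¹ := by rw [mul_inv_rev, mul_inv_rev, hti, mul_assoc]
      _ = v ^ j.val := by rw [← h, inv_inv]
  have hfix : t * elG T iX ^ i.val * t = elG T iX ^ i.val := by
    rw [← (Commute.pow_left (show Commute (elG T iX) t from hkt) i.val).eq, mul_assoc, Involution.mul_self ht,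
      mul_one]
  rw [hj, htv] at hfix
  have hj0 : j + j = 0 := hne v hv.cube hv.ne _ (by rw [pow_fin hv.cube]; exact mul_eq_one_iff_eq_inv.2 hfix)
  have hj' : j = 0 := (by decide : ∀ j : Fin 3, j + j = 0 → j = 0) j hj0
  subst hj'
  have hi := hne _ hk3 hk1 i (by simpa using hj)
  subst hi; rfl

/-- The subgroup of order nine. -/
def L (ht : orderOf t = 2) : Subgroup G where
  carrier := Set.range (emb T v)
  one_mem' := ⟨(0, 0), emb_zero T⟩
  mul_mem' := by rintro _ _ ⟨a, rfl⟩ ⟨b, rfl⟩; exact ⟨a + b, (emb_add T hv ht a b).symm⟩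
  inv_mem' := by rintro _ ⟨a, rfl⟩; exact ⟨-a, (emb_inv T hv ht a).symm⟩

theorem card_L (ht : orderOf t = 2) : Nat.card (L T hv ht) = 9 := by
  show Nat.card (Set.range (emb T v)) = 9
  rw [Nat.card_range_of_injective (emb_inj T hv ht), Nat.card_eq_fintype_card]; rfl

theorem k_mem (ht : orderOf t = 2) : elG T iX ∈ L T hv ht := ⟨(1, 0), emb_fst T⟩
theorem v_mem (ht : orderOf t = 2) : v ∈ L T hv ht := ⟨(0, 1), emb_snd T⟩

variable [Finite G] [IsSimpleGroup G]

/-- No element of order three commuting with `k`, `v` and `s`. -/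
theorem no_triangle (hH : Hyp t) {z : G} (hz3 : z ^ 3 = 1) (hzk : z * elG T iX = elG T iX * z)
    (hzv : z * v = v * z) (hzs : z * elG T iS = elG T iS * z) : z = 1 := by
  have : Fact (Nat.Prime 3) := ⟨Nat.prime_three⟩
  by_contra hz1
  obtain ⟨hk3, hk1, hkt, hsk, huk, hss, huu, hst, hut, -⟩ := k_facts T hH.ord
  obtain ⟨hsv, huv, -⟩ := v_facts T hv hH.ord
  set k := elG T iX with hkdef
  set s := elG T iS with hsdef
  set u := elG T iU with hudef
  have ht2 := Involution.mul_self hH.ord
  have hs2 : orderOf s = 2 := orderOf_refl T base_facts.1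
  have hu2 : orderOf u = 2 := orderOf_refl T base_facts.2.1
  have htk : t * k * t = k := by rw [← hkt, mul_assoc, ht2, mul_one]
  have hsz : s * z * s = z := by rw [← hzs, mul_assoc, hss, mul_one]
  have htsc : s * t = t * s := elG_comm T iS
  have hks : k * s ≠ s * k := by
    intro h
    have := (sep (r := s) (a := k) (b := k) hss (by rw [← h, mul_assoc, hss, mul_one]) hsk hk3 hk1).1
    exact this rfl
  -- `t` inverts `z`
  have htz : t * z * t = z⁻¹ := by
    have hy : t * z * t * s = s * (t * z * t) := by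
      calc t * z * t * s = t * (z * s) * t := by rw [mul_assoc _ t, ← htsc, ← mul_assoc, mul_assoc t z]
        _ = t * (s * z) * t := by rw [hzs]
        _ = _ := by rw [← mul_assoc t, ← htsc]; simp only [mul_assoc]
    have hcube : (t * z * t) ^ 3 = 1 := by
      have := conj_pow (i := 3) (a := t) (b := z)
      rw [Involution.inv_eq hH.ord] at this
      rw [this, hz3, mul_one, ht2]
    have hyk := conj_cent ht2 (Or.inl htk) hzk
    have hcomm := three_comm T hH hs2 hy hzs hcube hz3 hyk hzk hks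
    rcases three_cent T hH hs2 hy hzs hcomm hcube hz3 hz1 with e | e | e
    · exfalso; apply hz1
      calc z = t * (t * z * t) * t := by simp only [mul_assoc, ← mul_assoc t t, ht2, one_mul, mul_one]
        _ = 1 := by rw [e, mul_one, ht2]
    · exfalso
      have hzt : z * t = t * z := by
        calc z * t = t * z * t * t := by rw [e]
          _ = t * z := by rw [mul_assoc _ t t, ht2, mul_one]
      have hodd : Odd (orderOf z) := (by decide : Odd 3).of_dvd_nat (orderOf_dvd_of_pow_eq_one hz3)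
      rcases odd_cent_k T hH.ord hzt hzk hodd with e | e | e
      · exact hz1 e
      · exact hks (by rw [e] at hzs; exact hzs)
      · exact hks (by
          have h2 : z * z = k := by
            rw [e, ← hkdef]
            calc k * k * (k * k) = k * (k * k) * k := by group
              _ = k := by rw [← sq, ← pow_succ', hk3, one_mul]
          rw [← h2]; exact (Commute.mul_left (hzs : Commute z s) (hzs : Commute z s)).eq)
    · rw [e]; exact eq_inv_of_mul_eq_one_left (by rw [← hz3, pow_succ, sq])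
  have huz : u * z * u = z⁻¹ := by
    calc u * z * u = (t * s) * z * (s * t) := by rw [← htsc, hst]
      _ = t * (s * z * s) * t := by group
      _ = z⁻¹ := by rw [hsz, htz]
  -- the group they generate
  set K := Subgroup.closure ({k, v, z} : Set G) with hK
  have hcomm : ∀ a ∈ ({k, v, z} : Set G), ∀ b ∈ ({k, v, z} : Set G), a * b = b * a := by
    simp only [Set.mem_insert_iff, Set.mem_singleton_iff]
    rintro a (rfl | rfl | rfl) b (rfl | rfl | rfl) <;>
      first | rfl | exact hv.kv | exact hv.kv.symm | exact hzk | exact hzk.symm | exact hzv | exact hzv.symm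
  have hKc : IsMulCommutative K := Subgroup.isMulCommutative_closure hcomm
  have hKab : ∀ a ∈ K, ∀ b ∈ K, a * b = b * a := fun a ha b hb =>
    congrArg Subtype.val (hKc.is_comm.comm ⟨a, ha⟩ ⟨b, hb⟩)
  have hkK : k ∈ K := Subgroup.subset_closure (by simp)
  have hvK : v ∈ K := Subgroup.subset_closure (by simp)
  have hzK : z ∈ K := Subgroup.subset_closure (by simp)
  have hexp : ∀ a ∈ K, a ^ 3 = 1 := by
    intro a ha
    induction ha using Subgroup.closure_induction with
    | mem a ha =>
      simp only [Set.mem_insert_iff, Set.mem_singleton_iff] at ha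
      rcases ha with rfl | rfl | rfl
      · exact hk3
      · exact hv.cube
      · exact hz3
    | one => exact one_pow 3
    | mul a b ha hb iha ihb => rw [(show Commute a b from hKab a ha b hb).mul_pow, iha, ihb, one_mul]
    | inv a ha iha => rw [inv_pow, iha, inv_one]
  have hKodd : ∀ a ∈ K, Odd (orderOf a) := fun a ha =>
    (by decide : Odd 3).of_dvd_nat (orderOf_dvd_of_pow_eq_one (hexp a ha))
  have hp : IsPGroup 3 K := fun a => ⟨1, Subtype.ext (by simpa using hexp a a.2)⟩
  have hLK : L T hv hH.ord ≤ K := by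
    rintro _ ⟨c, rfl⟩; exact mul_mem (pow_mem hkK _) (pow_mem hvK _)
  have fixT : ∀ a ∈ K, t * a * t = a → a ∈ Subgroup.zpowers k := fun a ha h =>
    mem_zpowers_k T hH.ord (by
      calc a * t = t * a * t * t := by rw [h]
        _ = t * a := by rw [mul_assoc _ t t, ht2, mul_one]) (hKab a ha k hkK) (hKodd a ha)
  have fixR : ∀ {r y : G}, orderOf r = 2 → y * r = r * y → y ∈ K → y ≠ 1 → ∀ a ∈ K, r * a * r = a →
      a ∈ Subgroup.zpowers y := by
    intro r y hr hyr hyK hy1 a ha h
    have har : a * r = r * a := by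
      calc a * r = r * a * r * r := by rw [h]
        _ = r * a := by rw [mul_assoc _ r r, Involution.mul_self hr, mul_one]
    rcases three_cent T hH hr har hyr (hKab a ha y hyK) (hexp a ha) (hexp y hyK) hy1 with rfl | rfl | rfl
    · exact one_mem _
    · exact Subgroup.mem_zpowers _
    · exact mul_mem (Subgroup.mem_zpowers _) (Subgroup.mem_zpowers _)
  have hzL : z ∉ L T hv hH.ord := by
    rintro ⟨⟨i, j⟩, rfl⟩
    have hneg : s * emb T v (i, j) * s = (emb T v (i, j))⁻¹ := by
      have h1 := conj_pow (i := i.val) (a := s) (b := k)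
      have h2 := conj_pow (i := j.val) (a := s) (b := v)
      have hsi : s⁻¹ = s := inv_eq_of_mul_eq_one_right hss
      rw [hsi, hsk, inv_pow] at h1
      rw [hsi, hsv, inv_pow] at h2
      rw [emb, mul_inv_rev, ← hkdef, h1, h2]
      have hc : Commute (v ^ j.val) (k ^ i.val) := Commute.pow_pow hv.kv _ _
      rw [show s * (k ^ i.val * v ^ j.val) * s = (s * k ^ i.val * s) * (s * v ^ j.val * s) by
        rw [show (s * k ^ i.val * s) * (s * v ^ j.val * s) = s * k ^ i.val * (s * s) * v ^ j.val * s by group,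
          hss, mul_one]; group]
      have h3 : Commute (s * v ^ j.val * s) (s * k ^ i.val * s) := by
        have := hc.map (MulAut.conj s).toMonoidHom
        simpa [hsi] using this
      exact h3.eq.symm
    exact (sep (r := s) (a := emb T v (i, j)) (b := emb T v (i, j)) hss hsz hneg hz3 hz1).1 rfl
  have hcard : Nat.card K = 27 ∧ Nat.card G = 5616 := by
    obtain ⟨n, hn⟩ := IsPGroup.iff_card.1 hp
    have h9 : 9 < Nat.card K := by
      rw [← card_L T hv hH.ord]
      refine lt_of_le_of_ne (Subgroup.card_le_of_le hLK) fun e => hzL ?_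
      rw [Subgroup.eq_of_le_of_card_ge hLK e.ge]; exact hzK
    have hdvd := K.card_subgroup_dvd_card
    rw [hn] at h9 hdvd
    have h3 : 3 ≤ n := by
      by_contra h
      have := Nat.pow_le_pow_right (show 3 > 0 by norm_num) (show n ≤ 2 by omega)
      omega
    have h27 : 3 ^ 3 ∣ Nat.card G := (pow_dvd_pow 3 h3).trans hdvd
    rcases hH.card with hc | hc <;> rw [hc] at h27 hdvd
    · norm_num at h27
    · refine ⟨?_, hc⟩
      have hle : n ≤ 3 := by
        by_contra h
        have h81 := (pow_dvd_pow 3 (show 4 ≤ n by omega)).trans hdvd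
        norm_num at h81
      rw [hn, show n = 3 by omega]; norm_num
  obtain ⟨hK27, hG⟩ := hcard
  obtain ⟨P, hP⟩ : ∃ P : Sylow 3 G, (P : Subgroup G) = K := by
    refine ⟨Sylow.ofCard K ?_, rfl⟩
    rw [hK27, hG, show 5616 = 3 ^ 3 * 208 by norm_num, Nat.factorization_mul (by norm_num) (by norm_num),
      Finsupp.add_apply, Nat.factorization_eq_zero_of_not_dvd (n := 208) (by norm_num), add_zero,
      Nat.Prime.factorization_pow Nat.prime_three, Finsupp.single_eq_same]
    norm_num
  -- the normalizer and the orbit of `k`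
  set N := Subgroup.normalizer (K : Set G) with hN
  have hinv : ∀ a : G, a * a = 1 → (∀ y ∈ ({k, v, z} : Set G), a * y * a ∈ K) → a ∈ N := by
    intro a ha h
    refine mem_normalizer_closure fun y hy => ?_
    rw [inv_eq_of_mul_eq_one_right ha]; exact h y hy
  have htN : t ∈ N := hinv t ht2 fun y hy => by
    simp only [Set.mem_insert_iff, Set.mem_singleton_iff] at hy
    rcases hy with rfl | rfl | rfl
    · rw [htk]; exact hkK
    · rw [hv.tv]; exact inv_mem hvK
    · rw [htz]; exact inv_mem hzK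
  have hsN : s ∈ N := hinv s hss fun y hy => by
    simp only [Set.mem_insert_iff, Set.mem_singleton_iff] at hy
    rcases hy with rfl | rfl | rfl
    · rw [hsk]; exact inv_mem hkK
    · rw [hsv]; exact inv_mem hvK
    · rw [hsz]; exact hzK
  have huN : u ∈ N := by rw [← hst]; exact mul_mem hsN htN
  let O : Set G := {y | ∃ n ∈ N, n * k * n⁻¹ = y}
  have hOK : ∀ y ∈ O, y ∈ K ∧ y ≠ 1 := by
    rintro _ ⟨n, hn, rfl⟩
    exact ⟨(Subgroup.mem_normalizer_iff.1 hn k).1 hkK, fun e => hk1 (by simpa using e)⟩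
  have hOinv : ∀ a, a ∈ N → a * a = 1 → ∀ y ∈ O, a * y * a ∈ O := by
    rintro a ha haa _ ⟨n, hn, rfl⟩
    exact ⟨a * n, mul_mem ha hn, by rw [mul_inv_rev, inv_eq_of_mul_eq_one_right haa]; group⟩
  have hfus : ∀ y ∈ K, IsConj k y → y ∈ O := by
    intro y hy hc
    obtain ⟨c, rfl⟩ := isConj_iff.1 hc
    haveI : IsMulCommutative (P : Subgroup G) := by rw [hP]; exact hKc
    obtain ⟨n, hn, e⟩ := P.conj_eq_normalizer_conj_of_mem k c⁻¹ (show k ∈ (P : Subgroup G) from hP ▸ hkK)
      (by rw [inv_inv]; exact (show c * k * c⁻¹ ∈ (P : Subgroup G) from hP ▸ hy))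
    rw [inv_inv] at e
    have hn' : n ∈ N := by rw [hN, ← hP]; exact hn
    exact ⟨n⁻¹, inv_mem hn', by rw [inv_inv, ← e]⟩
  have hinvO : ∀ y, y ∈ O → s * y * s = y⁻¹ ∨ t * y * t = y⁻¹ → y⁻¹ ∈ O := by
    rintro y hy (h | h)
    · rw [← h]; exact hOinv s hsN hss y hy
    · rw [← h]; exact hOinv t htN ht2 y hy
  have hkO : k ∈ O := ⟨1, one_mem _, by simp⟩
  have hvO : v ∈ O := hfus v hvK (conj_k T hH hu2 hv.uv hv.cube hv.ne)
  have hzO : z ∈ O := hfus z hzK (conj_k T hH hs2 hzs hz3 hz1)
  let six : Set G := ({k, k⁻¹} ∪ {v, v⁻¹}) ∪ {z, z⁻¹}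
  have hsix : six ⊆ O := by
    rintro y (((rfl | rfl) | (rfl | rfl)) | (rfl | rfl))
    · exact hkO
    · exact hinvO k hkO (Or.inl hsk)
    · exact hvO
    · exact hinvO v hvO (Or.inl hsv)
    · exact hzO
    · exact hinvO z hzO (Or.inr htz)
  have hne : ∀ g : G, g ^ 3 = 1 → g ≠ 1 → g ≠ g⁻¹ := fun g hg hg1 e => by
    apply hg1
    calc g = g ^ 3 * (g * g)⁻¹ := by group
      _ = 1 := by rw [hg, mul_eq_one_iff_eq_inv.2 e, inv_one, mul_one]
  have hsixcard : six.ncard = 6 := by
    obtain ⟨a1, a2, a3, a4⟩ := sep ht2 htk hv.tv hv.cube hv.ne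
    obtain ⟨b1, b2, b3, b4⟩ := sep ht2 htk htz hz3 hz1
    obtain ⟨c1, c2, c3, c4⟩ := sep huu huv huz hz3 hz1
    have d1 : Disjoint ({k, k⁻¹} : Set G) {v, v⁻¹} := by simp [Set.disjoint_left, a1, a2, a3, a4]
    have d2 : Disjoint (({k, k⁻¹} : Set G) ∪ {v, v⁻¹}) {z, z⁻¹} := by
      simp [Set.disjoint_left, b1, b2, b3, b4, c1, c2, c3, c4]
    rw [Set.ncard_union_eq d2, Set.ncard_union_eq d1, Set.ncard_pair (hne k hk3 hk1),
      Set.ncard_pair (hne v hv.cube hv.ne), Set.ncard_pair (hne z hz3 hz1)]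
  -- counting
  have hcount : Nat.card N = O.ncard * Nat.card (N ⊓ Subgroup.centralizer ({k} : Set G) : Subgroup G) := by
    set S := (Subgroup.centralizer ({k} : Set G)).subgroupOf N with hS
    have hS' : Nat.card (N ⊓ Subgroup.centralizer ({k} : Set G) : Subgroup G) = Nat.card S := by
      rw [hS, ← Subgroup.inf_subgroupOf_left, Nat.card_congr (Subgroup.subgroupOfEquivOfLe inf_le_left).toEquiv]
    have hrel : ∀ a b : N, (a : G) * k * (a : G)⁻¹ = (b : G) * k * (b : G)⁻¹ ↔ a⁻¹ * b ∈ S := by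
      intro a b
      rw [hS, Subgroup.mem_subgroupOf, Subgroup.mem_centralizer_singleton_iff, Subgroup.coe_mul, Subgroup.coe_inv]
      constructor
      · intro h
        calc (a : G)⁻¹ * b * k = (a : G)⁻¹ * ((b : G) * k * (b : G)⁻¹) * b := by group
          _ = (a : G)⁻¹ * ((a : G) * k * (a : G)⁻¹) * b := by rw [h]
          _ = _ := by group
      · intro h
        calc (a : G) * k * (a : G)⁻¹ = (a : G) * (k * ((a : G)⁻¹ * b)) * (b : G)⁻¹ := by group
          _ = (a : G) * ((a : G)⁻¹ * b * k) * (b : G)⁻¹ := by rw [h]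
          _ = _ := by group
    let f : N ⧸ S → O := Quotient.lift (fun n : N => (⟨(n : G) * k * (n : G)⁻¹, n, n.2, rfl⟩ : O))
      fun a b h => Subtype.ext ((hrel a b).2 (QuotientGroup.leftRel_apply.1 h))
    have hf : Function.Bijective f := by
      refine ⟨?_, ?_⟩
      · intro a b
        induction a using QuotientGroup.induction_on with
        | H a =>
          induction b using QuotientGroup.induction_on with
          | H b => exact fun h => QuotientGroup.eq.2 ((hrel a b).1 (congrArg Subtype.val h))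
      · rintro ⟨_, n, hn, rfl⟩
        exact ⟨QuotientGroup.mk ⟨n, hn⟩, rfl⟩
    rw [hS', ← Subgroup.index_mul_card S, Subgroup.index_eq_card, Nat.card_congr (Equiv.ofBijective f hf),
      Nat.card_coe_set_eq]
  set St := Nat.card (N ⊓ Subgroup.centralizer ({k} : Set G) : Subgroup G)
  have hSt27 : 27 ∣ St := hK27 ▸ Subgroup.card_dvd_of_le (le_inf Subgroup.le_normalizer
    fun a ha => Subgroup.mem_centralizer_singleton_iff.2 (hKab a ha k hkK))
  have hSt2 : 2 ∣ St := by
    rw [← hH.ord, ← Subgroup.orderOf_mk t (show t ∈ N ⊓ Subgroup.centralizer ({k} : Set G) from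
      ⟨htN, Subgroup.mem_centralizer_singleton_iff.2 hkt.symm⟩)]
    exact orderOf_dvd_natCard _
  have hSt4 : ¬ 4 ∣ St := by
    obtain ⟨K0, hodd, -, -, -, hC⟩ := exists_oddCent T hH
    intro h4
    have := h4.trans (Subgroup.card_dvd_of_le (inf_le_right (a := N)))
    rw [hC, Nat.odd_iff] at *
    omega
  have hN4 : 4 ∣ Nat.card N := by
    rw [← card_V4 T]
    refine Subgroup.card_dvd_of_le fun a ha => ?_
    rcases mem_V4 T hH.ord ha with rfl | rfl | rfl | rfl
    · exact one_mem _
    · exact htN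
    · exact hsN
    · exact huN
  have hidx : 8 ≤ N.index := by
    have hNtop : N ≠ ⊤ := by
      intro h
      have hnorm : K.Normal := Subgroup.normalizer_eq_top_iff.1 h
      rcases hnorm.eq_bot_or_eq_top with e | e
      · rw [e, Subgroup.card_bot] at hK27; omega
      · rw [e, Subgroup.card_top] at hK27; omega
    have := Involution.card_le_factorial_of_index hNtop
    rw [hG] at this
    by_contra h
    have := this.trans (Nat.factorial_le (show N.index ≤ 7 by omega))
    norm_num [Nat.factorial] at this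
  have hNG := N.card_mul_index
  rw [hG] at hNG
  have hNle : Nat.card N ≤ 702 := by nlinarith
  have hO6 : 6 ≤ O.ncard := hsixcard ▸ Set.ncard_le_ncard hsix
  have hO8 : O.ncard = 8 := by
    have hSt54 : 54 ∣ St := Nat.Coprime.mul_dvd_of_dvd_of_dvd (by norm_num : Nat.Coprime 2 27) hSt2 hSt27
    obtain ⟨q, hq⟩ := hSt54
    rw [hq] at hcount hSt4
    have hq1 : q % 2 = 1 := by
      by_contra h
      exact hSt4 (Dvd.dvd.trans (by norm_num : 4 ∣ 108) ⟨q / 2, by omega⟩)
    have hqle : q ≤ 2 := by nlinarith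
    obtain rfl : q = 1 := by omega
    have hOle : O.ncard ≤ 13 := by omega
    have hdvd : Nat.card N ∣ 5616 := ⟨N.index, hNG.symm⟩
    rw [hcount] at hdvd hN4
    generalize O.ncard = o at *
    interval_cases o <;> revert hdvd hN4 <;> norm_num
  have hrest : (O \ six).ncard = 2 := by rw [Set.ncard_sdiff hsix, hO8, hsixcard]
  obtain ⟨x, y, hxy, hxy'⟩ := Set.ncard_eq_two.1 hrest
  have hx : x ∈ O \ six := hxy' ▸ Set.mem_insert x {y}
  have hy : y ∈ O \ six := hxy' ▸ Set.mem_insert_of_mem x (Set.mem_singleton y)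
  have hinvsix : ∀ a, (a = t ∨ a = s ∨ a = u) → ∀ w ∈ six, a * w * a ∈ six := by
    have key : ∀ a g : G, (a * g * a = g ∨ a * g * a = g⁻¹) → a * a = 1 →
        ∀ w, w = g ∨ w = g⁻¹ → a * w * a = g ∨ a * w * a = g⁻¹ := by
      intro a g h ha w hw
      have hinv' : a * g⁻¹ * a = (a * g * a)⁻¹ := by
        rw [mul_inv_rev, mul_inv_rev, inv_eq_of_mul_eq_one_right ha, mul_assoc]
      rcases hw with rfl | rfl
      · exact h
      · rw [hinv']
        rcases h with e | e <;> rw [e]
        · exact Or.inr rfl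
        · exact Or.inl (inv_inv g)
    rintro a ha w ((hw | hw) | hw) <;> rcases ha with rfl | rfl | rfl
    · exact Or.inl (Or.inl (key _ _ (Or.inl htk) ht2 w hw))
    · exact Or.inl (Or.inl (key _ _ (Or.inr hsk) hss w hw))
    · exact Or.inl (Or.inl (key _ _ (Or.inr huk) huu w hw))
    · exact Or.inl (Or.inr (key _ _ (Or.inr hv.tv) ht2 w hw))
    · exact Or.inl (Or.inr (key _ _ (Or.inr hsv) hss w hw))
    · exact Or.inl (Or.inr (key _ _ (Or.inl huv) huu w hw))
    · exact Or.inr (key _ _ (Or.inr htz) ht2 w hw)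
    · exact Or.inr (key _ _ (Or.inl hsz) hss w hw)
    · exact Or.inr (key _ _ (Or.inr huz) huu w hw)
  have hmem_six : ∀ g w : G, g ^ 3 = 1 → w ≠ 1 → w ∈ Subgroup.zpowers g → w = g ∨ w = g⁻¹ :=
    fun g w hg hw1 hw => (zpowers_cases hg hw).resolve_left hw1
  have hmove : ∀ a, (a = t ∨ a = s ∨ a = u) → a * x * a = y := by
    intro a ha
    have haa : a * a = 1 := by rcases ha with rfl | rfl | rfl <;> assumption
    have haN : a ∈ N := by rcases ha with rfl | rfl | rfl <;> assumption
    have hout : a * x * a ∈ O \ six := by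
      refine ⟨hOinv a haN haa x hx.1, fun h => hx.2 ?_⟩
      have := hinvsix a ha _ h
      rwa [show a * (a * x * a) * a = a * a * x * (a * a) by group, haa, one_mul, mul_one] at this
    rw [hxy'] at hout
    rcases hout with e | e
    · exfalso
      obtain ⟨hxK, hx1⟩ := hOK x hx.1
      apply hx.2
      rcases ha with rfl | rfl | rfl
      · exact Or.inl (Or.inl (hmem_six k x hk3 hx1 (fixT x hxK e)))
      · exact Or.inr (hmem_six z x hz3 hx1 (fixR hs2 hzs hzK hz1 x hxK e))
      · exact Or.inl (Or.inr (hmem_six v x hv.cube hx1 (fixR hu2 hv.uv hvK hv.ne x hxK e)))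
    · exact e
  apply hxy
  have h1 := hmove t (Or.inl rfl)
  have h2 := hmove s (Or.inr (Or.inl rfl))
  have h3 := hmove u (Or.inr (Or.inr rfl))
  calc x = s * (s * x * s) * s := by simp only [mul_assoc, ← mul_assoc s s, hss, one_mul, mul_one]
    _ = s * (t * x * t) * s := by rw [h2, h1]
    _ = (s * t) * x * (t * s) := by group
    _ = u * x * u := by rw [← htsc, hst]
    _ = y := h3

/-- The centralizer of the subgroup of order nine is the subgroup itself. -/
theorem cent_L (hH : Hyp t) {x : G} (hxk : x * elG T iX = elG T iX * x) (hxv : x * v = v * x) :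
    x ∈ L T hv hH.ord := by
  obtain ⟨hk3, hk1, hkt, hsk, huk, hss, huu, hst, hut, -⟩ := k_facts T hH.ord
  obtain ⟨hsv, huv, -⟩ := v_facts T hv hH.ord
  have ht2 := Involution.mul_self hH.ord
  have htk : t * elG T iX * t = elG T iX := by rw [← hkt, mul_assoc, ht2, mul_one]
  let D : Subgroup G := Subgroup.centralizer ({elG T iX, v} : Set G)
  have hD : ∀ y, y ∈ D ↔ y * elG T iX = elG T iX * y ∧ y * v = v * y := fun y => by
    simp only [D, Subgroup.mem_centralizer_iff, Set.mem_insert_iff, Set.mem_singleton_iff, forall_eq_or_imp,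
      forall_eq]
    exact ⟨fun h => ⟨h.1.symm, h.2.symm⟩, fun h => ⟨h.1.symm, h.2.symm⟩⟩
  have hne : ∀ r, orderOf r = 2 → r * elG T iX = elG T iX * r → r * v = v * r → False := by
    intro r hr h1 h2
    have := three_cent T hH hr h1.symm h2.symm hv.kv.symm hk3 hv.cube hv.ne
    rw [← emb_fst T (v := v), ← emb_zero T (v := v)] at this
    have hv2 : v * v = emb T v (0, 2) := by simp [emb, sq]
    rw [hv2] at this
    conv at this => rhs; lhs; rhs; rw [← emb_snd T (v := v)]
    rcases this with e | e | e <;> exact absurd (emb_inj T hv hH.ord e) (by decide)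
  have hodd : Odd (Nat.card D) := by
    rw [Nat.odd_iff]
    by_contra h
    obtain ⟨r, hr⟩ := exists_prime_orderOf_dvd_card' (p := 2) (G := D) (Nat.dvd_of_mod_eq_zero (by omega))
    obtain ⟨h1, h2⟩ := (hD r).1 r.2
    exact hne r (by rw [Subgroup.orderOf_coe, hr]) h1 h2
  have hn : V4 T ≤ Subgroup.normalizer (D : Set G) := V4_le_normalizer T hH.ord D
    (fun y hy => (hD _).2 ⟨conj_cent ht2 (Or.inl htk) ((hD y).1 hy).1,
      conj_cent ht2 (Or.inr hv.tv) ((hD y).1 hy).2⟩)
    (fun y hy => (hD _).2 ⟨conj_cent hss (Or.inr hsk) ((hD y).1 hy).1,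
      conj_cent hss (Or.inr hsv) ((hD y).1 hy).2⟩)
  refine le_of_traces T hH.ord hodd hn ?_ ?_ ?_ ((hD x).2 ⟨hxk, hxv⟩)
  · intro y hy hyt
    have := mem_zpowers_k T hH.ord hyt ((hD y).1 hy).1 (odd_of_mem hodd hy)
    exact (Subgroup.zpowers_le.2 (k_mem T hv hH.ord)) this
  · intro y hy hys
    obtain ⟨h1, h2⟩ := (hD y).1 hy
    rw [no_triangle T hv hH (pow_three_of_odd T hH (orderOf_refl T base_facts.1) hys (odd_of_mem hodd hy))
      h1 h2 hys]
    exact one_mem _
  · intro y hy hyu
    obtain ⟨-, h2⟩ := (hD y).1 hy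
    have hu2 : orderOf (elG T iU) = 2 := orderOf_refl T base_facts.2.1
    rcases three_cent T hH hu2 hyu hv.uv h2 (pow_three_of_odd T hH hu2 hyu (odd_of_mem hodd hy))
      hv.cube hv.ne with e | e | e
    · rw [e]; exact one_mem _
    · rw [e]; exact v_mem T hv hH.ord
    · rw [e]; exact mul_mem (v_mem T hv hH.ord) (v_mem T hv hH.ord)

end Cfsg.Agent.GL23Ident
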