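/-
`M11` and `PSL(3,3)` as groups with a system.
-/
import Cfsg.Agent.Lib.GL23Ident.Sys
import Cfsg.Agent.Lib.MathieuEleven.Basic
import Cfsg.Agent.Lib.GLOrder.Basic
import Mathlib.LinearAlgebra.Matrix.SpecialLinearGroup

set_option autoImplicit false

open scoped Pointwise

namespace Cfsg.Agent.GL23Ident

namespace Mathieu

open Cfsg.Agent.MathieuEleven

def mA : ℕ := 0x73ecb518a43c5329d50ca42ed10c20
def mAi : ℕ := 0x2d5475b1c6b5c88a4da97ca3010c20
def mS : ℕ := 0xb9eb47b6309964652c88b31c910c20
def mX : ℕ := 0xbd147991d079589aada8b4a2608c40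
def mXi : ℕ := 0xb9d76998b07c52d55588a11d210460
def mW : ℕ := 0x8a9c59b6e27d64c5d9233928644020

/-- Codes of the letters. -/
def codes : ℕ → List ℕ
  | 0 => [mA] | 1 => [mS] | 2 => [mX] | 3 => [mW]
  | 4 => [mAi] | 5 => [mS] | 6 => [mXi] | 7 => [mW]
  | _ => []

theorem mk_inv {c d : ℕ} (h : chk [c, d] [] = true) : mk d = (mk c)⁻¹ := by
  have h' : mk c * mk d = 1 := by
    have := eq_el h
    simpa [el] using this
  exact (inv_eq_of_mul_eq_one_right h').symm

theorem letters_eq (l : ℕ) : letters (mk mA) (mk mS) (mk mX) (mk mW) l = el (codes l) := by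
  rcases l with _|_|_|_|_|_|_|_|l <;> simp [letters, codes, el]
  · exact (mk_inv (c := mA) (by decide +kernel)).symm
  · exact (mk_inv (c := mS) (by decide +kernel)).symm
  · exact (mk_inv (c := mX) (by decide +kernel)).symm
  · exact (mk_inv (c := mW) (by decide +kernel)).symm

theorem ev_eq (r : List ℕ) :
    Cert.ev (letters (mk mA) (mk mS) (mk mX) (mk mW)) r = el (r.flatMap codes) := by
  induction r with
  | nil => rfl
  | cons l r ih =>
    simp only [Cert.ev, List.map_cons, List.prod_cons, List.flatMap_cons] at ih ⊢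
    rw [ih, letters_eq, el_append]

theorem gl_ok : ∀ r ∈ glWords, chk (r.flatMap codes) [] = true := by decide +kernel

/-- The system in `M11`. -/
noncomputable def sys : Sys ↥Spor.M11 1 where
  a := mk mA
  s := mk mS
  x := mk mX
  w := mk mW
  gl r hr := by rw [ev_eq, eq_el (gl_ok r hr)]; rfl
  ww := by
    have := eq_el (w := [mW, mW]) (v := []) (by decide +kernel)
    simpa [el] using this
  wt := by
    have := eq_el (w := [mW, mA, mA, mA, mA, mW]) (v := [mS]) (by decide +kernel)
    simpa [el, pow_succ, mul_assoc] using this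
  wst := by
    have := eq_el (w := [mW, mS, mA, mA, mA, mA, mW]) (v := [mS, mA, mA, mA, mA]) (by decide +kernel)
    simpa [el, pow_succ, mul_assoc] using this
  dw := by
    have := eq_el (w := [mA, mS, mAi, mW, mA, mS, mAi, mW, mA, mS, mAi, mW]) (v := []) (by decide +kernel)
    rw [← mk_inv (c := mA) (d := mAi) (by decide +kernel)]
    simpa [el, pow_succ, mul_assoc] using this
  sk := by
    have := eq_el (w := [mS, mW, mX, mW, mS]) (v := [mW, mX, mW]) (by decide +kernel)
    simpa [el, mul_assoc] using this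
  tk := by
    have := eq_el (w := [mA, mA, mA, mA, mW, mX, mW, mA, mA, mA, mA, mW, mX, mW]) (v := []) (by decide +kernel)
    refine eq_inv_of_mul_eq_one_left ?_
    simpa [el, pow_succ, mul_assoc] using this
  comm := by
    have := eq_el (w := [mW, mX, mW, mA, mW, mX, mW, mAi]) (v := [mA, mW, mX, mW, mAi, mW, mX, mW]) (by decide +kernel)
    rw [← mk_inv (c := mA) (d := mAi) (by decide +kernel)]
    show _ * _ = _ * _
    simpa [el, mul_assoc] using this
  act := by
    have := eq_el (w := [mA, mA, mW, mX, mW, mAi, mAi]) (v := [mW, mX, mW, mA, mW, mX, mW, mAi]) (by decide +kernel)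
    rw [← mk_inv (c := mA) (d := mAi) (by decide +kernel)]
    simpa [el, mul_assoc] using this

theorem sys_s_ne : sys.s ≠ 1 := by
  have h := ne_el (w := [mS]) (v := []) (by decide +kernel) 2 (by decide +kernel)
  simpa [el, sys] using h

end Mathieu

namespace Linear

open Matrix

abbrev SL3 := SpecialLinearGroup (Fin 3) (ZMod 3)

def lA : SL3 := ⟨!![2, 2, 0; 1, 2, 0; 0, 0, 2], by decide⟩
def lS : SL3 := ⟨!![0, 1, 0; 1, 0, 0; 0, 0, 2], by decide⟩
def lX : SL3 := ⟨!![2, 1, 0; 2, 0, 0; 0, 0, 1], by decide⟩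
def lW : SL3 := ⟨!![1, 2, 2; 2, 1, 2; 1, 1, 0], by decide⟩

/-- The system in `SL(3,3)`. -/
def sys : Sys SL3 2 where
  a := lA
  s := lS
  x := lX
  w := lW
  gl := by decide +kernel
  ww := by decide +kernel
  wt := by decide +kernel
  wst := by decide +kernel
  dw := by decide +kernel
  sk := by decide +kernel
  tk := by decide +kernel
  comm := by show _ * _ = _ * _; decide +kernel
  act := by decide +kernel

theorem sys_s_ne : sys.s ≠ 1 := by decide +kernel

theorem natCard_sl : Nat.card SL3 = 5616 := by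
  haveI : Fact (Nat.Prime 3) := ⟨Nat.prime_three⟩
  rw [GLOrder.card_SL, Nat.card_zmod]
  decide

theorem nonempty_psl : Nonempty (SL3 ≃* ProjectiveSpecialLinearGroup (Fin 3) (ZMod 3)) := by
  haveI : Fact (Nat.Prime 3) := ⟨Nat.prime_three⟩
  have h : Subgroup.center SL3 = ⊥ := by
    rw [← Subgroup.card_eq_one, GLOrder.card_center_SL, Nat.card_zmod, Fintype.card_fin]
    decide
  exact ⟨MulEquiv.ofBijective (QuotientGroup.mk' (Subgroup.center SL3))
    ⟨by rw [← MonoidHom.ker_eq_bot_iff, QuotientGroup.ker_mk', h], QuotientGroup.mk'_surjective _⟩⟩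

end Linear

end Cfsg.Agent.GL23Ident
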