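/-
The normalizer of the subgroup of order nine contains a Sylow `2`-subgroup of `C(s)`.
-/
import Cfsg.Agent.Lib.GL23Ident.Frame

set_option autoImplicit false

namespace Cfsg.Agent.GL23Ident

open Cfsg.Agent.GL23Cent

/-- The group generated by the diagonal and a swap. -/
theorem swap_data : ∀ q, (app q (1, 0)).1 = 0 → (app q (0, 1)).2 = 0 →
    (gclose [dT, dS, q]).card = 8 ∧ k1 ∈ gclose [dT, dS, q] ∧
    ∀ k ∈ gclose [dT, dS, q], ∀ l ∈ gclose [dT, dS, q], GL23Cent.mul k l ∈ gclose [dT, dS, q] := by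
  decide +kernel

theorem squares_gen :
    ∀ k, k ∈ gclose (dT :: (List.finRange 48).map fun l => GL23Cent.mul l l) := by decide +kernel

variable {G : Type*} [Group G] {t : G}
variable (T : Table ↥(Subgroup.centralizer ({t} : Set G))) {v : G} (hv : Pair T v)

include hv in
theorem emb_scalar (ht : orderOf t = 2) (c : Fin 3 × Fin 3) (i : Fin 3) :
    emb T v (c.1 * i, c.2 * i) = emb T v c ^ i.val := by
  obtain ⟨a, b⟩ := c
  have h2 : (a * 2, b * 2) = (a, b) + (a, b) := by
    refine Prod.ext ?_ ?_ <;> simp only [Prod.fst_add, Prod.snd_add]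
    · revert a; decide
    · revert b; decide
  match i with
  | ⟨0, _⟩ =>
    show emb T v (a * 0, b * 0) = _
    rw [mul_zero, mul_zero, emb_zero]; simp
  | ⟨1, _⟩ =>
    show emb T v (a * 1, b * 1) = _
    rw [mul_one, mul_one]; simp
  | ⟨2, _⟩ =>
    show emb T v (a * 2, b * 2) = _
    rw [h2, ← emb_add T hv ht]; simp [sq]

section

variable (ht : orderOf t = 2)

/-- The normalizer of the subgroup of order nine. -/
def NL : Subgroup G := Subgroup.normalizer (L T hv ht : Set G)

theorem exists_q (n : NL T hv ht) :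
    ∃ q, ∀ c, emb T v (app q c) = (n : G) * emb T v c * (n : G)⁻¹ := by
  obtain ⟨a, ha⟩ : (n : G) * emb T v (1, 0) * (n : G)⁻¹ ∈ L T hv ht :=
    (Subgroup.mem_normalizer_iff.1 n.2 _).1 ⟨(1, 0), rfl⟩
  obtain ⟨b, hb⟩ : (n : G) * emb T v (0, 1) * (n : G)⁻¹ ∈ L T hv ht :=
    (Subgroup.mem_normalizer_iff.1 n.2 _).1 ⟨(0, 1), rfl⟩
  have lin : ∀ i j : Fin 3, emb T v (a.1 * i + b.1 * j, a.2 * i + b.2 * j) =
      (n : G) * emb T v (i, j) * (n : G)⁻¹ := by
    intro i j
    rw [← Prod.mk_add_mk, ← emb_add T hv ht, emb_scalar T hv ht, emb_scalar T hv ht, ha, hb, conj_pow, conj_pow,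
      ← emb_scalar T hv ht, ← emb_scalar T hv ht,
      show ((1, 0) : Fin 3 × Fin 3).1 * i = i from one_mul i,
      show ((1, 0) : Fin 3 × Fin 3).2 * i = 0 from zero_mul i,
      show ((0, 1) : Fin 3 × Fin 3).1 * j = 0 from zero_mul j,
      show ((0, 1) : Fin 3 × Fin 3).2 * j = j from one_mul j]
    calc _ = (n : G) * (emb T v (i, 0) * emb T v (0, j)) * (n : G)⁻¹ := by group
      _ = _ := by rw [emb_add T hv ht, Prod.mk_add_mk, add_zero, zero_add]
  obtain ⟨q, hq1, hq2⟩ := app_surj a b fun i j h => by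
    have := lin i j
    rw [h, emb_zero] at this
    have h1 : emb T v (i, j) = 1 := by
      calc emb T v (i, j) = (n : G)⁻¹ * ((n : G) * emb T v (i, j) * (n : G)⁻¹) * n := by group
        _ = 1 := by rw [← this]; group
    have := emb_inj T hv ht (h1.trans (emb_zero T).symm)
    exact ⟨congrArg Prod.fst this, congrArg Prod.snd this⟩
  refine ⟨q, fun c => ?_⟩
  obtain ⟨i, j⟩ := c
  rw [app_lin, hq1, hq2]
  exact lin i j

/-- The matrix of a normalising element. -/
noncomputable def qn (n : NL T hv ht) : Fin 48 := (exists_q T hv ht n).choose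

theorem qn_spec (n : NL T hv ht) (c : Fin 3 × Fin 3) :
    emb T v (app (qn T hv ht n) c) = (n : G) * emb T v c * (n : G)⁻¹ := (exists_q T hv ht n).choose_spec c

theorem qn_eq {n : NL T hv ht} {q : Fin 48}
    (h1 : emb T v (app q (1, 0)) = (n : G) * elG T iX * (n : G)⁻¹)
    (h2 : emb T v (app q (0, 1)) = (n : G) * v * (n : G)⁻¹) : qn T hv ht n = q :=
  app_ext _ _ (emb_inj T hv ht (by rw [qn_spec, emb_fst, h1]))
    (emb_inj T hv ht (by rw [qn_spec, emb_snd, h2]))

/-- The action on the subgroup of order nine. -/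
noncomputable def psi : NL T hv ht →* G :=
  MonoidHom.mk' (fun n => elG T (qn T hv ht n)) fun a b => by
    rw [← elG_mul]
    congr 1
    obtain ⟨h1, h2⟩ := app_mul (qn T hv ht a) (qn T hv ht b)
    refine qn_eq T hv ht ?_ ?_
    · rw [h1, qn_spec, qn_spec, emb_fst, Subgroup.coe_mul]; group
    · rw [h2, qn_spec, qn_spec, emb_snd, Subgroup.coe_mul]; group

theorem psi_range_le : (psi T hv ht).range ≤ Subgroup.centralizer ({t} : Set G) := by
  rintro _ ⟨n, rfl⟩; exact elG_mem T _

end

variable [Finite G] [IsSimpleGroup G] (hH : Hyp t)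

theorem psi_ker : (psi T hv hH.ord).ker = (L T hv hH.ord).subgroupOf (NL T hv hH.ord) := by
  ext n
  rw [MonoidHom.mem_ker, Subgroup.mem_subgroupOf]
  constructor
  · intro h
    have hq : qn T hv hH.ord n = k1 := elG_injective T (h.trans (elG_k1 T).symm)
    have h1 := qn_spec T hv hH.ord n (1, 0)
    have h2 := qn_spec T hv hH.ord n (0, 1)
    rw [hq, app_id.1, emb_fst] at h1
    rw [hq, app_id.2.1, emb_snd] at h2
    exact cent_L T hv hH (mul_inv_eq_iff_eq_mul.1 h1.symm) (mul_inv_eq_iff_eq_mul.1 h2.symm)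
  · rintro ⟨a, ha⟩
    show elG T (qn T hv hH.ord n) = 1
    have hfix : ∀ c, (n : G) * emb T v c * (n : G)⁻¹ = emb T v c := fun c => by
      rw [← ha, emb_comm T hv hH.ord, mul_inv_cancel_right]
    rw [show qn T hv hH.ord n = k1 from qn_eq T hv hH.ord
      (by have := hfix (1, 0); rw [emb_fst] at this; rw [app_id.1, emb_fst]; exact this.symm)
      (by have := hfix (0, 1); rw [emb_snd] at this; rw [app_id.2.1, emb_snd]; exact this.symm), elG_k1]

include hv hH in
/-- The lines of `k` and `v` can be exchanged. -/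
theorem exists_line_swap : ∃ w : G, w * w = 1 ∧
    (w * elG T iX * w = v ∨ w * elG T iX * w = v⁻¹) ∧
    (w * v * w = elG T iX ∨ w * v * w = (elG T iX)⁻¹) := by
  have ht := hH.ord
  obtain ⟨hk3, hk1, hkt, hsk, huk, hss, huu, hst, hut, hkk⟩ := k_facts T ht
  obtain ⟨hsv, huv, hvv⟩ := v_facts T hv ht
  set k := elG T iX with hkdef
  set s := elG T iS with hsdef
  set u := elG T iU with hudef
  have ht2 := Involution.mul_self ht
  have hs2 : orderOf s = 2 := orderOf_refl T base_facts.1
  have hts : t ≠ s := fun e => by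
    rw [hsdef] at e
    exact base_facts.1.2.2 (elG_injective T ((elG_kz T ht).trans e)).symm
  obtain ⟨w, hww, hws, hwt, hwu⟩ := exists_swap T hH hs2 ht (elG_comm T iS).symm hts
  rw [show t * s = u by rw [← elG_comm T iS, hst]] at hwt hwu
  have hwi : w⁻¹ = w := inv_eq_of_mul_eq_one_right hww
  have hcj : ∀ a b, w * (a * b) * w = (w * a * w) * (w * b * w) := fun a b => by
    calc w * (a * b) * w = w * a * (w * w) * b * w := by rw [hww, mul_one]; group
      _ = _ := by group
  have hiw : ∀ a, w * a⁻¹ * w = (w * a * w)⁻¹ := fun a => by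
    rw [mul_inv_rev, mul_inv_rev, hwi, mul_assoc]
  have hat : w * v * w * t = t * (w * v * w) := by
    rw [← hwu, ← hcj, ← hcj, hv.uv]
  have has : s * (w * v * w) * s = (w * v * w)⁻¹ := by
    rw [← hws]
    rw [← hcj, ← hcj, hsv, hiw]
  obtain ⟨e, he⟩ := elG_surj T hat
  have he3 : GL23Cent.mul e (GL23Cent.mul e e) = k1 := elG_injective T (by
    rw [elG_mul, elG_mul, elG_k1, he, ← hcj, ← hcj, ← sq, ← pow_succ', hv.cube, mul_one, hww])
  have he1 : e ≠ k1 := fun h => hv.ne (by
    rw [h, elG_k1] at he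
    calc v = w * (w * v * w) * w := by simp only [mul_assoc, ← mul_assoc w w, hww, one_mul, mul_one]
      _ = 1 := by rw [← he, mul_one, hww])
  have hinv : GL23Cent.mul (GL23Cent.mul iS e) iS = inv48 e := elG_injective T (by
    rw [elG_mul, elG_mul, elG_inv, he]; exact has)
  have back : ∀ a b, w * a * w = b → w * b * w = a := fun a b h => by
    rw [← h]; simp only [mul_assoc, ← mul_assoc w w, hww, one_mul, mul_one]
  set d := elG T iD with hddef
  have hdd : d * d = 1 := elG_sq T klein_data.2.2.1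
  have good : (w * v * w = k ∨ w * v * w = k⁻¹) → ∃ w : G, w * w = 1 ∧
      (w * k * w = v ∨ w * k * w = v⁻¹) ∧ (w * v * w = k ∨ w * v * w = k⁻¹) := by
    intro h
    refine ⟨w, hww, ?_, h⟩
    rcases h with h | h
    · exact Or.inl (back _ _ h)
    · right
      have := back _ _ h
      rw [hiw] at this
      rw [← this, inv_inv]
  have bad : (w * v * w = d * k * d ∨ w * v * w = (d * k * d)⁻¹) → False := by
    intro h
    have hcd : ∀ a b, d * (a * b) * d = (d * a * d) * (d * b * d) := fun a b => by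
      calc d * (a * b) * d = d * a * (d * d) * b * d := by rw [hdd, mul_one]; group
        _ = _ := by group
    have hds : d * s * d = u := by rw [hsdef, hudef, hddef, ← elG_mul, ← elG_mul, base_facts.2.2.2.2.2.1]
    have hdu : d * u * d = s := by
      rw [← hds]; simp only [mul_assoc, ← mul_assoc d d, hdd, one_mul, mul_one]
    have hdt : d * t * d = t := by rw [hddef, elG_comm, mul_assoc, elG_sq T klein_data.2.2.1, mul_one]
    set σ := d * w with hσ
    have hσc : ∀ a, σ * a * σ⁻¹ = d * (w * a * w) * d := fun a => by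
      rw [hσ, mul_inv_rev, hwi, inv_eq_of_mul_eq_one_right hdd]; group
    have hσ1 : σ * t * σ⁻¹ = s := by rw [hσc, hwt, hdu]
    have hσ2 : σ * s * σ⁻¹ = u := by rw [hσc, hws, hds]
    have hσ3 : σ * u * σ⁻¹ = t := by rw [hσc, hwu, hdt]
    -- the cube centralises the four-group
    have hc3 : ∀ a b c : G, σ * a * σ⁻¹ = b → σ * b * σ⁻¹ = c → σ * c * σ⁻¹ = a →
        σ ^ 3 * a = a * σ ^ 3 := by
      intro a b c h1 h2 h3
      rw [show σ ^ 3 = σ * σ * σ by rw [pow_succ, sq]]
      calc σ * σ * σ * a = σ * (σ * (σ * a * σ⁻¹) * σ⁻¹) * σ⁻¹ * (σ * σ * σ) := by group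
        _ = _ := by rw [h1, h2, h3]
    have hσV := eq_of_cent T (hc3 t s u hσ1 hσ2 hσ3) (hc3 s u t hσ2 hσ3 hσ1) ht
    -- the three subgroups
    set z := d * (w * k * w) * d with hzdef
    have hzs : z * s = s * z := by
      rw [hzdef, ← hdu, ← hwt, ← hcd, ← hcd, ← hcj, ← hcj, hkt]
    have hzk : z * k = k * z := by
      have h1 : Commute (w * v * w) (w * k * w) := by
        show _ = _
        rw [← hcj, ← hcj, hv.kv]
      have h2 : Commute (d * k * d) (w * k * w) := by
        rcases h with h | h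
        · rwa [h] at h1
        · rw [h] at h1; simpa using h1.inv_left
      have h3 : d * (d * k * d * (w * k * w)) * d = d * (w * k * w * (d * k * d)) * d := by rw [h2.eq]
      rw [hcd (d * k * d), hcd (w * k * w) (d * k * d),
        show d * (d * k * d) * d = d * d * k * (d * d) by group, hdd, one_mul, mul_one] at h3
      exact h3.symm
    have hσv : σ * v * σ⁻¹ = k ∨ σ * v * σ⁻¹ = k⁻¹ := by
      rw [hσc]
      rcases h with h | h <;> rw [h]
      · left; simp only [mul_assoc, ← mul_assoc d d, hdd, one_mul, mul_one]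
      · right
        rw [mul_inv_rev, mul_inv_rev, inv_eq_of_mul_eq_one_right hdd]
        simp only [mul_assoc, ← mul_assoc d d, hdd, one_mul, mul_one]
    have hσk : σ * k * σ⁻¹ = z := by rw [hσc]
    have hσz : σ * z * σ⁻¹ = v ∨ σ * z * σ⁻¹ = v⁻¹ := by
      have e3 : σ * z * σ⁻¹ = σ ^ 3 * (σ⁻¹ * k * σ) * (σ ^ 3)⁻¹ := by
        rw [show σ ^ 3 = σ * σ * σ by rw [pow_succ, sq], ← hσk]; group
      have e1 : σ⁻¹ * k * σ = v ∨ σ⁻¹ * k * σ = v⁻¹ := by
        rcases hσv with e | e
        · left; rw [← e]; group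
        · right
          have : k = σ * v⁻¹ * σ⁻¹ := by rw [← inv_inv k, ← e]; group
          rw [this]; group
      have hp : ∀ y, y = v ∨ y = v⁻¹ → σ ^ 3 * y * (σ ^ 3)⁻¹ = v ∨ σ ^ 3 * y * (σ ^ 3)⁻¹ = v⁻¹ := by
        intro y hy
        rcases hσV with e | e | e | e <;> rw [e]
        · simpa using hy
        · rw [Involution.inv_eq ht]
          rcases hy with rfl | rfl
          · exact Or.inr hv.tv
          · left
            calc t * v⁻¹ * t = (t⁻¹ * v * t⁻¹)⁻¹ := by group
              _ = v := by rw [Involution.inv_eq ht, hv.tv, inv_inv]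
        · rw [inv_eq_of_mul_eq_one_right hss]
          rcases hy with rfl | rfl
          · exact Or.inr hsv
          · left
            calc s * v⁻¹ * s = (s⁻¹ * v * s⁻¹)⁻¹ := by group
              _ = v := by rw [inv_eq_of_mul_eq_one_right hss, hsv, inv_inv]
        · rw [inv_eq_of_mul_eq_one_right huu]
          rcases hy with rfl | rfl
          · exact Or.inl huv
          · right
            calc u * v⁻¹ * u = (u⁻¹ * v * u⁻¹)⁻¹ := by group
              _ = v⁻¹ := by rw [inv_eq_of_mul_eq_one_right huu, huv]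
      rw [e3]; exact hp _ e1
    have hzv : z * v = v * z := by
      have h1 : Commute (σ * k * σ⁻¹) (σ * z * σ⁻¹) := by
        show _ = _
        calc σ * k * σ⁻¹ * (σ * z * σ⁻¹) = σ * (k * z) * σ⁻¹ := by group
          _ = σ * (z * k) * σ⁻¹ := by rw [hzk]
          _ = _ := by group
      rw [hσk] at h1
      rcases hσz with e | e <;> rw [e] at h1
      · exact h1.eq
      · simpa using h1.inv_right.eq
    have hz3 : z ^ 3 = 1 := by rw [← hσk, conj_pow, hk3, mul_one, mul_inv_cancel]
    have hz1 : z ≠ 1 := fun e => hk1 (by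
      rw [← hσk] at e
      simpa using e)
    exact hz1 (no_triangle T hv hH hz3 hzk hzv hzs)
  rcases inverted_iS e he1 he3 hinv with rfl | rfl | rfl | rfl
  · exact good (Or.inl he.symm)
  · exact good (Or.inr (by rw [← he, elG_mul, hkk]))
  · exact (bad (Or.inl (by rw [← he, elG_mul, elG_mul]))).elim
  · refine (bad (Or.inr ?_)).elim
    rw [← he, elG_mul, elG_mul, elG_mul, hkk, mul_inv_rev, mul_inv_rev, inv_eq_of_mul_eq_one_right hdd, mul_assoc]

/-- The `2`-part of the normalizer has order sixteen. -/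
theorem sixteen_dvd : 16 ∣ Nat.card (NL T hv hH.ord) := by
  have : Fact (Nat.Prime 3) := ⟨Nat.prime_three⟩
  have ht := hH.ord
  obtain ⟨hk3, hk1, hkt, hsk, huk, hss, huu, hst, hut, hkk⟩ := k_facts T ht
  obtain ⟨hsv, huv, hvv⟩ := v_facts T hv ht
  have ht2 := Involution.mul_self ht
  set N := NL T hv ht
  have hfst : emb T v (2, 0) = (elG T iX)⁻¹ := by rw [← hkk]; simp [emb, sq]
  have hsnd : emb T v (0, 2) = v⁻¹ := by rw [← hvv]; simp [emb, sq]
  have hmemN : ∀ a, a * a = 1 → a * elG T iX * a ∈ L T hv ht → a * v * a ∈ L T hv ht → a ∈ N := by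
    intro a ha h1 h2
    refine Subgroup.mem_normalizer_iff.2 ?_
    have hcj : ∀ x y, a * (x * y) * a = (a * x * a) * (a * y * a) := fun x y => by
      calc a * (x * y) * a = a * x * (a * a) * y * a := by rw [ha, mul_one]; group
        _ = _ := by group
    have hp : ∀ (x : G) (n : ℕ), a * x ^ n * a = (a * x * a) ^ n := fun x n => by
      induction n with
      | zero => simp [ha]
      | succ n ih => rw [pow_succ, hcj, ih, pow_succ]
    have hfwd : ∀ x ∈ L T hv ht, a * x * a ∈ L T hv ht := by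
      rintro _ ⟨c, rfl⟩
      rw [emb, hcj, hp, hp]
      exact mul_mem (pow_mem h1 _) (pow_mem h2 _)
    intro x
    rw [inv_eq_of_mul_eq_one_right ha]
    refine ⟨hfwd x, fun h => ?_⟩
    have := hfwd _ h
    rwa [show a * (a * x * a) * a = a * a * x * (a * a) by group, ha, one_mul, mul_one] at this
  have hk := k_mem T hv ht
  have hvm := v_mem T hv ht
  have htN : t ∈ N := hmemN t ht2 (by rw [← hkt, mul_assoc, ht2, mul_one]; exact hk)
    (by rw [hv.tv]; exact inv_mem hvm)
  have hsN : elG T iS ∈ N := hmemN _ hss (by rw [hsk]; exact inv_mem hk) (by rw [hsv]; exact inv_mem hvm)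
  obtain ⟨w, hww, hwk, hwv⟩ := exists_line_swap T hv hH
  have hwN : w ∈ N := hmemN w hww
    (by rcases hwk with e | e <;> rw [e] <;> [exact hvm; exact inv_mem hvm])
    (by rcases hwv with e | e <;> rw [e] <;> [exact hk; exact inv_mem hk])
  set q := qn T hv ht ⟨w, hwN⟩ with hq
  have hi : ∀ {a : G}, a * a = 1 → a⁻¹ = a := fun h => inv_eq_of_mul_eq_one_right h
  have hq1 : (app q (1, 0)).1 = 0 := by
    have h1 : emb T v (app q (1, 0)) = w * elG T iX * w := by
      rw [hq, qn_spec, emb_fst, hi hww]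
    rcases hwk with e | e
    · rw [emb_inj T hv ht (h1.trans (e.trans (emb_snd T).symm))]
    · rw [emb_inj T hv ht (h1.trans (e.trans hsnd.symm))]
  have hq2 : (app q (0, 1)).2 = 0 := by
    have h1 : emb T v (app q (0, 1)) = w * v * w := by
      rw [hq, qn_spec, emb_snd, hi hww]
    rcases hwv with e | e
    · rw [emb_inj T hv ht (h1.trans (e.trans (emb_fst T).symm))]
    · rw [e, ← hfst] at h1; rw [emb_inj T hv ht h1]
  set R := (psi T hv ht).range
  have hqT : qn T hv ht ⟨t, htN⟩ = dT := qn_eq T hv ht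
    (by rw [app_id.2.2.1, emb_fst]; show _ = t * elG T iX * t⁻¹; rw [← hkt, mul_inv_cancel_right])
    (by rw [app_id.2.2.2.1, hsnd, ← hv.tv]; show _ = t * v * t⁻¹; rw [hi ht2])
  have hqS : qn T hv ht ⟨_, hsN⟩ = dS := qn_eq T hv ht
    (by rw [app_id.2.2.2.2.1, hfst, ← hsk]; show _ = elG T iS * elG T iX * (elG T iS)⁻¹; rw [hi hss])
    (by rw [app_id.2.2.2.2.2.1, hsnd, ← hsv]; show _ = elG T iS * v * (elG T iS)⁻¹; rw [hi hss])
  have hgR : ∀ g ∈ [dT, dS, q], elG T g ∈ R := by
    intro g hg
    simp only [List.mem_cons, List.not_mem_nil, or_false] at hg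
    rcases hg with rfl | rfl | rfl
    · exact ⟨⟨t, htN⟩, by rw [← hqT]; rfl⟩
    · exact ⟨⟨_, hsN⟩, by rw [← hqS]; rfl⟩
    · exact ⟨⟨w, hwN⟩, rfl⟩
  have hclR : ∀ gens : List (Fin 48), (∀ g ∈ gens, elG T g ∈ R) → ∀ g ∈ gclose gens, elG T g ∈ R :=
    fun gens h g hg => gclose_subset (P := fun g => elG T g ∈ R) (by rw [elG_k1]; exact one_mem _)
      (fun a b ha hb => by rw [elG_mul]; exact mul_mem ha hb) h g hg
  obtain ⟨h8, h81, h8mul⟩ := swap_data q hq1 hq2
  have hR8 : 8 ∣ Nat.card R := by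
    rw [← h8, ← card_subOf T _ h81 h8mul]
    refine Subgroup.card_dvd_of_le ?_
    rintro _ ⟨g, hg, rfl⟩
    exact hclR _ hgR g hg
  have hRC : R ≤ Subgroup.centralizer ({t} : Set G) := psi_range_le T hv ht
  have hR48 : Nat.card R ∣ 48 := T.card_eq ▸ Subgroup.card_dvd_of_le hRC
  have hNR : Nat.card N = 9 * Nat.card R := by
    have h := (psi T hv ht).ker.card_mul_index
    rw [Subgroup.index_ker, psi_ker T hv hH,
      Nat.card_congr (Subgroup.subgroupOfEquivOfLe (show L T hv ht ≤ N from Subgroup.le_normalizer)).toEquiv,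
      card_L] at h
    exact h.symm
  have hNG : Nat.card N ∣ Nat.card G := N.card_subgroup_dvd_card
  have hRcases : Nat.card R = 8 ∨ Nat.card R = 16 ∨ Nat.card R = 24 ∨ Nat.card R = 48 := by
    obtain ⟨m, hm⟩ := hR8
    have := Nat.le_of_dvd (by norm_num) hR48
    have hm6 : m ≤ 6 := by omega
    rw [hm] at hR48 ⊢
    interval_cases m <;> revert hR48 <;> norm_num
  suffices Nat.card R = 16 ∨ Nat.card R = 48 by
    rw [hNR]; rcases this with e | e <;> rw [e] <;> norm_num
  rcases hH.card with hG | hG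
  · rcases hRcases with e | e | e | e
    · exfalso
      have hfac : (Nat.card G).factorization 3 = 2 := by
        rw [hG, show 7920 = 3 ^ 2 * 880 by norm_num, Nat.factorization_mul (by norm_num) (by norm_num),
          Finsupp.add_apply, Nat.factorization_eq_zero_of_not_dvd (n := 880) (by norm_num), add_zero,
          Nat.Prime.factorization_pow Nat.prime_three, Finsupp.single_eq_same]
      let P : Sylow 3 G := Sylow.ofCard (L T hv ht) (by rw [card_L, hfac]; norm_num)
      have h1 := P.card_eq_index_normalizer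
      have h2 := card_sylow_modEq_one 3 G
      have h3 := N.card_mul_index
      rw [hNR, e, hG] at h3
      have hP : (Subgroup.normalizer ((P : Subgroup G) : Set G)).index = N.index := rfl
      rw [h1] at h2
      have h4 : Subgroup.normalizer (P : Set G) = N := rfl
      rw [h4] at h2
      have : N.index = 110 := by omega
      rw [this] at h2
      exact absurd h2 (by decide)
    · exact Or.inl e
    · exfalso; rw [hNR, e, hG] at hNG; norm_num at hNG
    · exact Or.inr e
  · have hR3 : 3 ∣ Nat.card R := by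
      have hLp : IsPGroup 3 (L T hv ht) := IsPGroup.of_card (n := 2) (by rw [card_L]; norm_num)
      obtain ⟨P, hP⟩ := hLp.exists_le_sylow
      have hPc : Nat.card (P : Subgroup G) = 27 := by
        rw [P.card_eq_multiplicity, hG, show 5616 = 3 ^ 3 * 208 by norm_num,
          Nat.factorization_mul (by norm_num) (by norm_num), Finsupp.add_apply,
          Nat.factorization_eq_zero_of_not_dvd (n := 208) (by norm_num), add_zero,
          Nat.Prime.factorization_pow Nat.prime_three, Finsupp.single_eq_same]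
        norm_num
      haveI := P.isPGroup'.isNilpotent
      have hlt := Group.normalizerCondition_of_isNilpotent ((L T hv ht).subgroupOf P) (by
        rw [lt_top_iff_ne_top, Ne, Subgroup.subgroupOf_eq_top]
        intro h
        have := Subgroup.card_le_of_le h
        rw [card_L] at this; omega)
      obtain ⟨n, hn, hnL⟩ := SetLike.exists_of_lt hlt
      have hnN : (n : G) ∈ N := by
        show (n : G) ∈ Subgroup.normalizer (L T hv ht : Set G)
        refine mem_normalizer_closure' (fun x hx => ?_)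
        have h := (Subgroup.mem_normalizer_iff.1 hn ⟨x, hP hx⟩).1 (Subgroup.mem_subgroupOf.2 hx)
        simpa [Subgroup.mem_subgroupOf] using h
      have hne : psi T hv ht ⟨n, hnN⟩ ≠ 1 := by
        intro h
        rw [← MonoidHom.mem_ker, psi_ker T hv hH, Subgroup.mem_subgroupOf] at h
        exact hnL (Subgroup.mem_subgroupOf.2 h)
      obtain ⟨j, hj⟩ := P.isPGroup' n
      have hj' : (⟨n, hnN⟩ : N) ^ 3 ^ j = 1 := Subtype.ext (by simpa using congrArg Subtype.val hj)
      have hpow : psi T hv ht ⟨n, hnN⟩ ^ 3 ^ j = 1 := by rw [← map_pow, hj', map_one]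
      obtain ⟨i, -, hi⟩ := (Nat.dvd_prime_pow Nat.prime_three).1 (orderOf_dvd_of_pow_eq_one hpow)
      have hi0 : i ≠ 0 := fun h => hne (orderOf_eq_one_iff.1 (by rw [hi, h, pow_zero]))
      have hmem : psi T hv ht ⟨n, hnN⟩ ∈ R := ⟨_, rfl⟩
      refine (dvd_pow_self 3 hi0).trans ?_
      rw [← hi, ← Subgroup.orderOf_mk _ hmem]
      exact orderOf_dvd_natCard _
    rcases hRcases with e | e | e | e
    · rw [e] at hR3; norm_num at hR3
    · exact Or.inl e
    · exfalso
      set R' := R.subgroupOf (Subgroup.centralizer ({t} : Set G)) with hR'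
      have h2 : R'.index = 2 := by
        have h := R'.card_mul_index
        rw [Nat.card_congr (Subgroup.subgroupOfEquivOfLe hRC).toEquiv, e, T.card_eq] at h
        omega
      have hall : ∀ g, elG T g ∈ R := by
        intro g
        refine hclR _ (fun a ha => ?_) g (squares_gen g)
        simp only [List.mem_cons, List.mem_map] at ha
        rcases ha with rfl | ⟨l, -, rfl⟩
        · exact hgR _ (by simp)
        · have := Subgroup.sq_mem_of_index_two h2 ⟨elG T l, elG_mem T l⟩
          rw [hR', Subgroup.mem_subgroupOf] at this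
          simpa [elG_mul, sq] using this
      have hle : Subgroup.centralizer ({t} : Set G) ≤ R := fun g hg => by
        obtain ⟨l, rfl⟩ := elG_surj T (mem_cent_iff.1 hg)
        exact hall l
      have := Subgroup.card_le_of_le hle
      rw [e, T.card_eq] at this; omega
    · exact Or.inr e
where
  mem_normalizer_closure' {H : Subgroup G} {g : G} (h : ∀ z ∈ H, g * z * g⁻¹ ∈ H) :
      g ∈ Subgroup.normalizer (H : Set G) := Coprime.mem_normalizer_of_forall h

include hv hH in
/-- A subgroup of order sixteen normalising `L` and centralising `s`. -/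
theorem exists_sixteen : ∃ P : Subgroup G, Nat.card P = 16 ∧ t ∈ P ∧ elG T iS ∈ P ∧
    (∀ p ∈ P, p * elG T iS = elG T iS * p) ∧
    ∀ g ∈ P, g ^ 4 = elG T iS → Commute (elG T iX) (g * elG T iX * g⁻¹) ∧
      ∃ j : Fin 3, j ≠ 0 ∧
        g * (g * elG T iX * g⁻¹) * g⁻¹ = elG T iX * (g * elG T iX * g⁻¹) ^ j.val := by
  have : Fact (Nat.Prime 2) := ⟨Nat.prime_two⟩
  have ht := hH.ord
  obtain ⟨hk3, hk1, hkt, hsk, huk, hss, huu, hst, hut, hkk⟩ := k_facts T ht
  obtain ⟨hsv, huv, hvv⟩ := v_facts T hv ht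
  have ht2 := Involution.mul_self ht
  set N := NL T hv ht
  have hk := k_mem T hv ht
  have hvm := v_mem T hv ht
  have hVN : V4 T ≤ N := V4_le_normalizer T ht _ (fun x hx => ?_) (fun x hx => ?_)
  rotate_left
  · obtain ⟨c, rfl⟩ := hx
    refine ⟨(c.1, -c.2), ?_⟩
    have h2 : t * v ^ c.2.val * t = (v ^ c.2.val)⁻¹ := by
      have h := conj_pow (i := c.2.val) (a := t) (b := v)
      rw [Involution.inv_eq ht, hv.tv, inv_pow] at h
      exact h.symm
    have hc : t * elG T iX ^ c.1.val = elG T iX ^ c.1.val * t :=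
      ((show Commute (elG T iX) t from hkt).pow_left _).eq.symm
    have hneg : v ^ (-c.2).val = (v ^ c.2.val)⁻¹ := eq_inv_of_mul_eq_one_left (by
      rw [← pow_fin hv.cube, neg_add_cancel]; simp)
    calc emb T v (c.1, -c.2) = elG T iX ^ c.1.val * v ^ (-c.2).val := rfl
      _ = elG T iX ^ c.1.val * (t * v ^ c.2.val * t) := by rw [hneg, h2]
      _ = (elG T iX ^ c.1.val * t) * v ^ c.2.val * t := by group
      _ = t * emb T v c * t := by rw [← hc, emb]; group
  · obtain ⟨c, rfl⟩ := hx
    refine ⟨-c, ?_⟩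
    have hp : ∀ (a b : G), a * a = 1 → a * b * a = b⁻¹ → ∀ n : ℕ, a * b ^ n * a = (b ^ n)⁻¹ := by
      intro a b ha hb n
      have h := conj_pow (i := n) (a := a) (b := b)
      rw [inv_eq_of_mul_eq_one_right ha, hb, inv_pow] at h
      exact h.symm
    rw [← emb_inv T hv ht, emb, mul_inv_rev]
    calc (v ^ c.2.val)⁻¹ * (elG T iX ^ c.1.val)⁻¹
        = (elG T iX ^ c.1.val)⁻¹ * (v ^ c.2.val)⁻¹ :=
          ((show Commute v (elG T iX) from hv.kv).pow_pow _ _).inv_inv.eq
      _ = (elG T iS * elG T iX ^ c.1.val * elG T iS) * (elG T iS * v ^ c.2.val * elG T iS) := by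
          rw [hp _ _ hss hsk, hp _ _ hss hsv]
      _ = elG T iS * elG T iX ^ c.1.val * (elG T iS * elG T iS) * v ^ c.2.val * elG T iS := by group
      _ = _ := by rw [hss, mul_one]; group
  have htN : t ∈ N := hVN ⟨kz, by simp, elG_kz T ht⟩
  have hsN : elG T iS ∈ N := hVN ⟨iS, by simp, rfl⟩
  have hV2 : IsPGroup 2 ((V4 T).subgroupOf N) :=
    (IsPGroup.of_card (n := 2) (by rw [card_V4]; norm_num) : IsPGroup 2 (V4 T)).of_equiv
      (Subgroup.subgroupOfEquivOfLe hVN).symm
  obtain ⟨S, hS⟩ := hV2.exists_le_sylow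
  have hS16 : Nat.card (S : Subgroup N) = 16 := by
    obtain ⟨o, ho, hg⟩ := card_eq_sixteen_mul T ht
    rw [S.card_eq_multiplicity]
    have h1 : (2 : ℕ) ^ 4 ∣ Nat.card N := by simpa using sixteen_dvd T hv hH
    have h2 := (Nat.prime_two.pow_dvd_iff_le_factorization Nat.card_pos.ne').1 h1
    have h3 : (Nat.card N).factorization 2 ≤ (Nat.card G).factorization 2 :=
      (Nat.factorization_le_iff_dvd Nat.card_pos.ne' Nat.card_pos.ne').2 N.card_subgroup_dvd_card 2
    rw [hg, Nat.factorization_mul (by norm_num) ho.pos.ne', Finsupp.add_apply,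
      Nat.factorization_eq_zero_of_not_dvd (n := o) (fun h =>
      Nat.not_even_iff_odd.mpr ho (even_iff_two_dvd.mpr h)), add_zero,
      show (16 : ℕ) = 2 ^ 4 by norm_num, Nat.Prime.factorization_pow Nat.prime_two,
      Finsupp.single_eq_same] at h3
    rw [show (Nat.card N).factorization 2 = 4 by omega]; norm_num
  set P := (S : Subgroup N).map N.subtype with hP
  have hPc : Nat.card P = 16 := by rw [hP, Subgroup.card_map_of_injective N.subtype_injective, hS16]
  have hPN : P ≤ N := Subgroup.map_subtype_le _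
  have htP : t ∈ P := ⟨⟨t, htN⟩, hS (Subgroup.mem_subgroupOf.2 ⟨kz, by simp, elG_kz T ht⟩), rfl⟩
  have hsP : elG T iS ∈ P := ⟨⟨_, hsN⟩, hS (Subgroup.mem_subgroupOf.2 ⟨iS, by simp, rfl⟩), rfl⟩
  have hqS : qn T hv ht ⟨_, hsN⟩ = dS := qn_eq T hv ht
    (by
      rw [app_id.2.2.2.2.1]
      show emb T v (2, 0) = elG T iS * elG T iX * (elG T iS)⁻¹
      rw [inv_eq_of_mul_eq_one_right hss, hsk, ← hkk]; simp [emb, sq])
    (by
      rw [app_id.2.2.2.2.2.1]
      show emb T v (0, 2) = elG T iS * v * (elG T iS)⁻¹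
      rw [inv_eq_of_mul_eq_one_right hss, hsv, ← hvv]; simp [emb, sq])
  refine ⟨P, hPc, htP, hsP, fun p hp => ?_, fun g hg hg4 => ?_⟩
  · have hs' : psi T hv ht ⟨_, hsN⟩ = elG T dS := by rw [← hqS]; rfl
    let x : N := ⟨p, hPN hp⟩ * ⟨_, hsN⟩ * (⟨p, hPN hp⟩ : N)⁻¹ * (⟨_, hsN⟩ : N)⁻¹
    have hx : x ∈ (psi T hv ht).ker := by
      rw [MonoidHom.mem_ker, map_mul, map_mul, map_mul, map_inv, map_inv, hs']
      have hpd : psi T hv ht ⟨p, hPN hp⟩ * elG T dS = elG T dS * psi T hv ht ⟨p, hPN hp⟩ := by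
        show elG T _ * elG T dS = elG T dS * elG T _
        rw [← elG_mul, ← elG_mul, app_id.2.2.2.2.2.2]
      rw [hpd]; group
    rw [psi_ker T hv hH, Subgroup.mem_subgroupOf] at hx
    have hxP : (x : G) ∈ P := mul_mem (mul_mem (mul_mem hp hsP) (inv_mem hp)) (inv_mem hsP)
    have h1 : (x : G) = 1 := Coprime.eq_one_of_mem_of_mem (by rw [hPc, card_L]; norm_num) hxP hx
    calc p * elG T iS = (p * elG T iS * p⁻¹ * (elG T iS)⁻¹) * (elG T iS * p) := by group
      _ = elG T iS * p := by
        rw [show p * elG T iS * p⁻¹ * (elG T iS)⁻¹ = 1 from h1, one_mul]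
  · set n : N := ⟨g, hPN hg⟩ with hn
    set q := qn T hv ht n with hq
    have hq4 : GL23Cent.mul (GL23Cent.mul q q) (GL23Cent.mul q q) = dS := elG_injective T (by
      rw [elG_mul, elG_mul, ← hqS]
      show psi T hv ht n * psi T hv ht n * (psi T hv ht n * psi T hv ht n) = psi T hv ht ⟨_, hsN⟩
      rw [← map_mul, ← map_mul]
      congr 1
      exact Subtype.ext (show g * g * (g * g) = elG T iS from
        (by simp [pow_succ, mul_assoc] : g * g * (g * g) = g ^ 4).trans hg4))
    obtain ⟨j, hj, happ⟩ := order_eight q hq4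
    have h1 : emb T v (app q (1, 0)) = g * elG T iX * g⁻¹ := by rw [hq, qn_spec, emb_fst]
    refine ⟨?_, j, hj, ?_⟩
    · rw [← h1, ← emb_fst T (v := v)]; exact emb_comm T hv ht _ _
    · have h2 := qn_spec T hv ht n (app q (1, 0))
      rw [← hq, happ, h1] at h2
      rw [← h2, ← h1, ← emb_scalar T hv ht, ← emb_fst T (v := v), emb_add T hv ht]
      simp only [Prod.mk_add_mk, zero_add]

end Cfsg.Agent.GL23Ident
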