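/-
Identification of a group with an involution centralizer `GL(2,3)`.
-/
import Cfsg.Agent.Lib.GL23Ident.Normalizer
import Cfsg.Agent.Lib.GL23Ident.Models
import Cfsg.Agent.Lib.GL23Cent.Simple

set_option autoImplicit false

namespace Cfsg.Agent.GL23Ident

open Cfsg Cfsg.Agent.GL23Cent
open scoped Pointwise

theorem refl_counts : (Finset.univ.filter fun r : Fin 48 => r = kz ∨ isRefl r).card = 13 ∧
    (Finset.univ.filter fun r : Fin 48 => isRefl r ∧ GL23Cent.mul r iS ≠ GL23Cent.mul iS r).card = 10 := by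
  decide +kernel

variable {G : Type*} [Group G] {t : G}
variable (T : Table ↥(Subgroup.centralizer ({t} : Set G))) {v : G}

theorem ev_letters (w : G) : ∀ r : List ℕ, 3 ∉ r → 7 ∉ r → r.all (· < 8) = true →
    Cert.ev (letters (elG T iA) (elG T iS) (elG T iX) w) r = elG T (evIdx r) := by
  intro r
  induction r with
  | nil => intros; exact (elG_k1 T).symm
  | cons l r ih =>
    intro h3 h7 h8
    simp only [List.mem_cons, not_or] at h3 h7
    rw [List.all_cons, Bool.and_eq_true, decide_eq_true_eq] at h8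
    have ih' := ih h3.2 h7.2 h8.2
    simp only [Cert.ev, List.map_cons, List.prod_cons] at ih' ⊢
    rw [ih', evIdx, elG_mul]
    congr 1
    obtain ⟨hl3, hl7, hl⟩ := And.intro h3.1 (And.intro h7.1 h8.1)
    interval_cases l <;> first | omega | rfl | exact (elG_inv T _).symm

variable [Finite G] [IsSimpleGroup G]

set_option quotPrecheck false in
local notation "C" => Subgroup.centralizer (Singleton.singleton t : Set G)

/-- The data assemble to a system generating the group. -/
theorem exists_sys (hv : Pair T v) (hH : Hyp t) :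
    (∃ S : Sys G 1, S.gen = ⊤) ∨ (∃ S : Sys G 2, S.gen = ⊤) := by
  have : Fact (Nat.Prime 2) := ⟨Nat.prime_two⟩
  have ht := hH.ord
  obtain ⟨hk3, hk1, hkt, hsk, huk, hss, huu, hst, hut, hkk⟩ := k_facts T ht
  set k := elG T iX with hkdef
  set s := elG T iS with hsdef
  set u := elG T iU with hudef
  set a := elG T iA with hadef
  have ht2 := Involution.mul_self ht
  have hu2 : orderOf u = 2 := orderOf_refl T base_facts.2.1
  have htu : t ≠ u := fun e => by
    rw [hudef] at e
    exact base_facts.2.1.2.2 (elG_injective T ((elG_kz T ht).trans e)).symm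
  have hts : t ≠ s := fun e => by
    rw [hsdef] at e
    exact base_facts.1.2.2 (elG_injective T ((elG_kz T ht).trans e)).symm
  have htsc : s * t = t * s := elG_comm T iS
  have htuc : u * t = t * u := elG_comm T iU
  obtain ⟨w, hww, hwu, hwt, hws⟩ := exists_swap T hH hu2 ht htuc.symm htu
  rw [show t * u = s by rw [← htuc, hut]] at hwt hws
  have hwi : w⁻¹ = w := inv_eq_of_mul_eq_one_right hww
  have hcj : ∀ a b, w * (a * b) * w = (w * a * w) * (w * b * w) := fun a b => by
    calc w * (a * b) * w = w * a * (w * w) * b * w := by rw [hww, mul_one]; group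
      _ = _ := by group
  have hiw : ∀ a, w * a⁻¹ * w = (w * a * w)⁻¹ := fun a => by
    rw [mul_inv_rev, mul_inv_rev, hwi, mul_assoc]
  have hw2 : ∀ a, w * (w * a * w) * w = a := fun a => by
    simp only [mul_assoc, ← mul_assoc w w, hww, one_mul, mul_one]
  obtain ⟨P, hP16, htP, hsP, hPs, hact⟩ := exists_sixteen T hv hH
  -- the conjugate of `P` is a Sylow subgroup of `C(t)` containing `a`
  set Q := P.map (MulAut.conj w).toMonoidHom with hQ
  have hmemQ : ∀ x, x ∈ Q ↔ w * x * w ∈ P := by
    intro x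
    constructor
    · rintro ⟨p, hp, rfl⟩
      show w * (w * p * w⁻¹) * w ∈ P
      rw [hwi, hw2]; exact hp
    · intro h
      exact ⟨_, h, show w * (w * x * w) * w⁻¹ = x by rw [hwi, hw2]⟩
  have hQC : Q ≤ Subgroup.centralizer ({t} : Set G) := fun x hx => by
    refine mem_cent_iff.2 ?_
    have h : w * ((w * x * w) * s) * w = w * (s * (w * x * w)) * w :=
      congrArg (fun y => w * y * w) (hPs _ ((hmemQ x).1 hx))
    rw [hcj (w * x * w) s, hcj s (w * x * w), hw2, hws] at h
    exact h
  have hfac : (Nat.card C).factorization 2 = 4 := by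
    rw [T.card_eq, show (48 : ℕ) = 2 ^ 4 * 3 by norm_num, Nat.factorization_mul (by norm_num) (by norm_num),
      Finsupp.add_apply, Nat.factorization_eq_zero_of_not_dvd (n := 3) (by norm_num), add_zero,
      Nat.Prime.factorization_pow Nat.prime_two, Finsupp.single_eq_same]
  have hQ16 : Nat.card Q = 16 := by
    rw [hQ, Subgroup.card_map_of_injective (MulAut.conj w).injective, hP16]
  have hP16le : P16 T ≤ C := by rintro _ ⟨l, -, rfl⟩; exact elG_mem T l
  let A1 : Sylow 2 C := Sylow.ofCard ((P16 T).subgroupOf C) (by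
    rw [Nat.card_congr (Subgroup.subgroupOfEquivOfLe hP16le).toEquiv, card_P16, hfac]; norm_num)
  let A2 : Sylow 2 C := Sylow.ofCard (Q.subgroupOf C) (by
    rw [Nat.card_congr (Subgroup.subgroupOfEquivOfLe hQC).toEquiv, hQ16, hfac]; norm_num)
  obtain ⟨c, hc⟩ := MulAction.exists_smul_eq C A1 A2
  have hcQ : ∀ x : C, (x : G) ∈ Q ↔ ((c⁻¹ * x * c : C) : G) ∈ P16 T := by
    intro x
    have h : x ∈ (A2 : Subgroup C) ↔ c⁻¹ * x * c ∈ (A1 : Subgroup C) := by
      rw [← hc, Sylow.coe_subgroup_smul, Coprime.mem_conj]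
    simpa [A1, A2, Subgroup.mem_subgroupOf] using h
  obtain ⟨e, he⟩ : ∃ e, elG T e = (c : G) := ⟨T.φ c, by rw [elG, Equiv.symm_apply_apply]⟩
  have hsQ : s ∈ Q := (hmemQ s).2 (by rw [hws]; exact htP)
  have hmem : ∀ l, elG T l ∈ Q ↔ GL23Cent.mul (GL23Cent.mul (inv48 e) l) e ∈ syl16 := by
    intro l
    rw [hcQ ⟨_, elG_mem T l⟩, Subgroup.coe_mul, Subgroup.coe_mul, Subgroup.coe_inv, ← he, ← elG_inv,
      ← elG_mul, ← elG_mul]
    constructor
    · rintro ⟨l', hl', e'⟩; exact elG_injective T e' ▸ hl'
    · exact fun h => ⟨_, h, rfl⟩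
  have haQ : a ∈ Q := (hmem iA).2 (syl16_data.2.2.2.2.2.2 e ((hmem iS).1 hsQ))
  -- the element of order eight on the subgroup of order nine
  set g := w * a * w with hg
  have hgP : g ∈ P := (hmemQ a).1 haQ
  have ha4 : a ^ 4 = t := elG_pow_four T ht
  have hg4 : g ^ 4 = s := by
    have h := conj_pow (i := 4) (a := w) (b := a)
    rw [hwi] at h
    rw [hg, h, ha4, hwt]
  obtain ⟨hcomm, j, hj, hgj⟩ := hact g hgP hg4
  have hgi : g⁻¹ = w * a⁻¹ * w := by rw [hg, mul_inv_rev, mul_inv_rev, hwi, mul_assoc]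
  have hgk : w * (g * k * g⁻¹) * w = a * (w * k * w) * a⁻¹ := by
    rw [hgi, hg]; simp only [mul_assoc, ← mul_assoc w w, hww, one_mul, mul_one]
  -- the cube
  have hd : elG T iD = a * s * a⁻¹ := by rw [hadef, hsdef, ← elG_inv, ← elG_mul, ← elG_mul, klein_data.2.2.2.2.2.2.2.2.2]
  set d := elG T iD with hddef
  have hdd : d * d = 1 := elG_sq T klein_data.2.2.1
  have hdt : d * t * d = t := by rw [hddef, elG_comm, mul_assoc, elG_sq T klein_data.2.2.1, mul_one]
  have hds : d * s * d = u := by rw [hsdef, hudef, hddef, ← elG_mul, ← elG_mul, base_facts.2.2.2.2.2.1]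
  have hdu : d * u * d = s := by
    rw [← hds]; simp only [mul_assoc, ← mul_assoc d d, hdd, one_mul, mul_one]
  set σ := d * w with hσ
  have hσc : ∀ a, σ * a * σ⁻¹ = d * (w * a * w) * d := fun a => by
    rw [hσ, mul_inv_rev, hwi, inv_eq_of_mul_eq_one_right hdd]; group
  have hσ1 : σ * t * σ⁻¹ = u := by rw [hσc, hwt, hds]
  have hσ2 : σ * s * σ⁻¹ = t := by rw [hσc, hws, hdt]
  have hσ3 : σ * u * σ⁻¹ = s := by rw [hσc, hwu, hdu]
  have hc3 : ∀ a b c : G, σ * a * σ⁻¹ = b → σ * b * σ⁻¹ = c → σ * c * σ⁻¹ = a → σ ^ 3 * a = a * σ ^ 3 := by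
    intro a b c h1 h2 h3
    rw [show σ ^ 3 = σ * σ * σ by rw [pow_succ, sq]]
    calc σ * σ * σ * a = σ * (σ * (σ * a * σ⁻¹) * σ⁻¹) * σ⁻¹ * (σ * σ * σ) := by group
      _ = _ := by rw [h1, h2, h3]
  have hdw : σ ^ 3 = 1 := by
    have hfix : ∀ y, σ ^ 3 = y → σ * y * σ⁻¹ = y := fun y h => by
      rw [← h, (Commute.self_pow σ 3).eq, mul_inv_cancel_right]
    rcases eq_of_cent T (hc3 t u s hσ1 hσ3 hσ2) (hc3 s t u hσ2 hσ1 hσ3) ht with h | h | h | h
    · exact h
    · exact absurd (hσ1.symm.trans (hfix t h)) htu.symm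
    · exact absurd (hσ2.symm.trans (hfix s h)) hts
    · exfalso
      have hsu : s = u := hσ3.symm.trans (hfix u h)
      rw [hsdef, hudef] at hsu
      exact base_facts.2.2.1 (elG_injective T hsu)
  -- the system
  have mk : ∀ i : ℕ, g * (g * k * g⁻¹) * g⁻¹ = k * (g * k * g⁻¹) ^ i → ∃ S : Sys G i, S.gen = ⊤ := by
    intro i hi
    let S : Sys G i :=
      { a := a, s := s, x := k, w := w
        gl := fun r hr => by
          obtain ⟨h1, h3, h7, h8⟩ := glWords_ok r hr
          rw [ev_letters T w r h3 h7 h8, h1, elG_k1]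
        ww := hww
        wt := by rw [ha4, hwt]
        wst := by rw [ha4, hst, hwu]
        dw := by rw [← hd]; exact hdw
        sk := by
          have htk : t * k * t = k := by rw [← hkt, mul_assoc, ht2, mul_one]
          rw [← hwt, ← hcj, ← hcj, htk]
        tk := by
          rw [ha4, ← hws, ← hcj, ← hcj, hsk, hiw]
        comm := by
          show _ = _
          rw [← hgk, ← hcj, ← hcj, hcomm.eq]
        act := by
          have h := congrArg (fun y => w * y * w) hi
          have e1 : w * (g * (g * k * g⁻¹) * g⁻¹) * w = a * (w * (g * k * g⁻¹) * w) * a⁻¹ := by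
            rw [hcj, hcj, hgi, hw2, hg, hw2]
          have e2 : w * (g * k * g⁻¹) ^ i * w = (w * (g * k * g⁻¹) * w) ^ i := by
            have h := conj_pow (i := i) (a := w) (b := g * k * g⁻¹)
            rw [hwi] at h
            exact h.symm
          simp only [e1, hcj k, e2, hgk] at h
          exact h }
    refine ⟨S, ?_⟩
    have hg' : ∀ l < 4, S.val l ∈ S.gen := fun l hl => S.mem_gen hl
    have hCgen : ∀ l, elG T l ∈ S.gen := fun l =>
      gclose_subset (P := fun l => elG T l ∈ S.gen) (by rw [elG_k1]; exact one_mem _)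
        (fun x y hx hy => by rw [elG_mul]; exact mul_mem hx hy)
        (fun x hx => by
          simp only [List.mem_cons, List.not_mem_nil, or_false] at hx
          rcases hx with rfl | rfl | rfl
          · exact hg' 0 (by norm_num)
          · exact hg' 1 (by norm_num)
          · exact hg' 2 (by norm_num)) l (gen_all l)
    have hwgen : w ∈ S.gen := hg' 3 (by norm_num)
    classical
    let A := Finset.univ.filter fun r : Fin 48 => r = kz ∨ isRefl r
    let B := Finset.univ.filter fun r : Fin 48 => isRefl r ∧ GL23Cent.mul r iS ≠ GL23Cent.mul iS r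
    let Y : Finset G := A.image (elG T) ∪ B.image fun r => w * elG T r * w
    have hY : Y.card = 23 := by
      rw [Finset.card_union_of_disjoint, Finset.card_image_of_injective _ (elG_injective T),
        Finset.card_image_of_injective _ (fun x y h => elG_injective T (mul_left_cancel (mul_right_cancel h))),
        refl_counts.1, refl_counts.2]
      rw [Finset.disjoint_left]
      intro y hy hy'
      simp only [Finset.mem_image, A, B, Finset.mem_filter, Finset.mem_univ, true_and] at hy hy'
      obtain ⟨l, -, rfl⟩ := hy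
      obtain ⟨r, ⟨-, hr⟩, e⟩ := hy'
      apply hr
      apply elG_injective T
      rw [elG_mul, elG_mul]
      have h1 : elG T l * t = t * elG T l := elG_comm T l
      rw [← e] at h1
      have h2 := congrArg (fun y => w * y * w) h1
      simp only [hcj _ t, hcj t, hw2, hwt] at h2
      exact h2
    have hrefl : ∀ r, isRefl r → ∃ c ∈ S.gen, c * t * c⁻¹ = elG T r := by
      intro r hr
      obtain ⟨d', hd'⟩ := refl_conj _ _ base_facts.1 hr
      have h := congrArg (elG T) hd'
      rw [elG_mul, elG_mul] at h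
      refine ⟨elG T d' * w, mul_mem (hCgen d') hwgen, ?_⟩
      calc elG T d' * w * t * (elG T d' * w)⁻¹ = elG T d' * (w * t * w⁻¹) * (elG T d')⁻¹ := by group
        _ = elG T d' * elG T iS * (elG T d')⁻¹ := by rw [hwi, hwt]
        _ = _ := by rw [h, mul_inv_cancel_right]
    have hYH' : ∀ y ∈ Y, ∃ c ∈ S.gen, c * t * c⁻¹ = y := by
      intro y hy
      simp only [Y, A, B, Finset.mem_union, Finset.mem_image, Finset.mem_filter, Finset.mem_univ, true_and] at hy
      rcases hy with ⟨r, hr, rfl⟩ | ⟨r, ⟨hr, -⟩, rfl⟩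
      · rcases hr with rfl | hr
        · exact ⟨1, one_mem _, by rw [elG_kz T ht]; group⟩
        · exact hrefl r hr
      · obtain ⟨c, hc, e⟩ := hrefl r hr
        refine ⟨w * c, mul_mem hwgen hc, ?_⟩
        rw [← e, mul_inv_rev, hwi]; group
    have hYH : ∀ y : Y, ∃ c ∈ S.gen, c * t * c⁻¹ = (y : G) := fun y => hYH' _ y.2
    choose f hf hfy using hYH
    have hbig : 23 * 48 ≤ Nat.card S.gen := by
      rw [← hY, ← T.card_eq, ← Nat.card_eq_finsetCard Y, ← Nat.card_prod]
      refine Nat.card_le_card_of_injective (fun p : Y × C => (⟨f p.1 * p.2, mul_mem (hf p.1) (by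
        obtain ⟨l, hl⟩ := elG_surj T (mem_cent_iff.1 p.2.2)
        rw [← hl]; exact hCgen l)⟩ : S.gen)) ?_
      rintro ⟨y1, c1⟩ ⟨y2, c2⟩ h
      have h' : f y1 * c1 = f y2 * c2 := congrArg Subtype.val h
      have hy : y1 = y2 := by
        apply Subtype.ext
        have key : ∀ (y : Y) (x : C), f y * x * t * (f y * x)⁻¹ = y := fun y x => by
          calc f y * x * t * (f y * x)⁻¹ = f y * ((x : G) * t) * (x : G)⁻¹ * (f y)⁻¹ := by group
            _ = f y * t * (f y)⁻¹ := by rw [mem_cent_iff.1 x.2]; group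
            _ = _ := hfy y
        rw [← key y1 c1, h', key y2 c2]
      subst hy
      exact Prod.ext rfl (Subtype.ext (mul_left_cancel h'))
    by_contra htop
    have hfact := Involution.card_le_factorial_of_index htop
    have hidx : 8 ≤ S.gen.index := by
      by_contra h
      have := hfact.trans (Nat.factorial_le (show S.gen.index ≤ 7 by omega))
      rcases hH.card with hc | hc <;> rw [hc] at this <;> norm_num [Nat.factorial] at this
    have hci := S.gen.card_mul_index
    rcases hH.card with hc | hc <;> rw [hc] at hci <;> nlinarith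
  have hj12 : j.val = 1 ∨ j.val = 2 := by
    rcases j with ⟨j, hj3⟩
    simp only [ne_eq, Fin.ext_iff] at hj
    have : j ≠ 0 := hj
    show j = 1 ∨ j = 2
    omega
  rcases hj12 with e | e <;> rw [e] at hgj
  · exact Or.inl (mk 1 hgj)
  · exact Or.inr (mk 2 hgj)

omit T in
/-- A simple group with such a centralizer is `M11` or `PSL(3,3)`. -/
theorem identify {G : Type*} [Group G] [Finite G] [IsSimpleGroup G] {t : G} (hH : Hyp t)
    (T : Table ↥(Subgroup.centralizer ({t} : Set G))) :
    Nonempty (G ≃* Spor.M11) ∨ Nonempty (G ≃* Matrix.ProjectiveSpecialLinearGroup (Fin 3) (ZMod 3)) := by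
  obtain ⟨T', v, hv⟩ := exists_pair T hH
  rcases exists_sys T' hv hH with ⟨S, hS⟩ | ⟨S, hS⟩
  · have hcard := MathieuEleven.natCard_m11
    rcases S.nonempty_mulEquiv Mathieu.sys hS Mathieu.sys_s_ne
      (by rw [hcard]; exact Sys.card_gen_mat _) (by rcases hH.card with h | h <;> omega) with h | ⟨hne, hdvd⟩
    · exact Or.inl h
    · exfalso
      rw [hcard] at hne hdvd
      rcases hH.card with h | h
      · exact hne h
      · rw [h] at hdvd; norm_num at hdvd
  · rcases S.nonempty_mulEquiv Linear.sys hS Linear.sys_s_ne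
      (by rw [Linear.natCard_sl]; exact Sys.card_gen_lin _)
      (by rw [Linear.natCard_sl]; rcases hH.card with h | h <;> omega) with h | ⟨hne, hdvd⟩
    · exact Or.inr ⟨h.some.trans Linear.nonempty_psl.some⟩
    · exfalso
      rw [Linear.natCard_sl] at hne hdvd
      rcases hH.card with h | h
      · rw [h] at hdvd; norm_num at hdvd
      · exact hne h

end Cfsg.Agent.GL23Ident
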